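import Cfsg.Agent.H180.MElM11
import Cfsg.Agent.H180.MElM12
import Cfsg.Agent.H180.MElBig
import Cfsg.Agent.H938.Sax.Base

/-!
# `OGMax` for the Mathieu groups (helper604, task 1613, for S2498 and S2528)
-/

set_option autoImplicit false

namespace Cfsg.Agent.H604.Sax.Mathieu

open Cfsg Equiv.Perm
open Cfsg.Agent.H866.InvolType (fx)
open Cfsg.Agent.H938.Sax
open Cfsg.Agent.H180.MEl
open Cfsg.Agent.J4Type.CocodeMask (mk isTab_mk)
open Cfsg.Agent.SporadicA.GolayPerm (isPerm isAut)
open Cfsg.Agent.H180.KMathieu (orderOf_tab ordOk mk_apply idx_zero)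
open Cfsg.Agent.SporadicStructure.M11InvPerms (dd dd_mem)
open Cfsg.Agent.MTwelveType.SylowModel (squareDodecad_eq card_M12)

/-- the missing primes: if no order is missing, all primes divide `|R|` -/
theorem dvd_map {L : Subgroup (Equiv.Perm GolayPt)} {R : Subgroup L} (hn : ¬ OrdGap L R) {p : ℕ}
    (hp : p.Prime) (h : p ∣ Nat.card L) : p ∣ Nat.card (R.map L.subtype) := by
  rw [card_map_subtype]
  exact prime_dvd_of_not_ordGap hn hp h

/-! ### `M₂₂`, `M₂₃`: a prime is missing -/

theorem og_M22 {R : Subgroup Spor.M22} (hR : R ≠ ⊤) : OrdGap Spor.M22 R := by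
  by_contra hn
  apply hR
  have hc := Cfsg.Agent.SporadicA.MathieuRecog.card_M22
  apply eq_top_of_card
  rw [← card_map_subtype, hc]
  refine m22 (T := {none, some 0}) ?_ (by decide) ?_ (dvd_map hn (by norm_num) (by rw [hc]; norm_num))
    (dvd_map hn (by norm_num) (by rw [hc]; norm_num)) (dvd_map hn (by norm_num) (by rw [hc]; norm_num))
  · rintro _ ⟨g, -, rfl⟩
    exact g.2.1.1
  · rintro _ ⟨g, -, rfl⟩ t ht
    rw [Finset.mem_insert, Finset.mem_singleton] at ht
    rcases ht with rfl | rfl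
    · exact g.2.1.2
    · exact g.2.2

theorem og_M23 {R : Subgroup Spor.M23} (hR : R ≠ ⊤) : OrdGap Spor.M23 R := by
  by_contra hn
  apply hR
  have hc := Cfsg.Agent.SporadicA.MathieuRecog.card_M23
  apply eq_top_of_card
  rw [← card_map_subtype, hc]
  refine m23 (T := {none}) ?_ (by decide) ?_ (dvd_map hn (by norm_num) (by rw [hc]; norm_num))
    (dvd_map hn (by norm_num) (by rw [hc]; norm_num)) (dvd_map hn (by norm_num) (by rw [hc]; norm_num))
    (dvd_map hn (by norm_num) (by rw [hc]; norm_num))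
  · rintro _ ⟨g, -, rfl⟩
    exact g.2.1
  · rintro _ ⟨g, -, rfl⟩ t ht
    rw [Finset.mem_singleton] at ht
    rw [ht]
    exact g.2.2

/-! ### `M₂₄`: order 10 -/

/-- the involution in an element of order 10 has no fixed point -/
theorem fx_ten {x : Equiv.Perm GolayPt} (hx : x ∈ M24) (ox : orderOf x = 10) : fx (x ^ 5) = 0 := by
  have o2 : orderOf (x ^ 5) = 2 := by
    rw [orderOf_pow_of_dvd (by norm_num) (by rw [ox]; norm_num), ox]
  have o5 : orderOf (x ^ 2) = 5 := by
    rw [orderOf_pow_of_dvd (by norm_num) (by rw [ox]; norm_num), ox]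
  exact fx_of_five (M24.pow_mem hx 5) (M24.pow_mem hx 2) o2 o5 ((Commute.refl x).pow_pow 5 2)

theorem no_fix_ten {x : Equiv.Perm GolayPt} (hx : x ∈ M24) (ox : orderOf x = 10) (a : GolayPt) : x a ≠ a := by
  intro h
  apply no_fix (fx_ten hx ox) a
  have : ∀ n : ℕ, (x ^ n) a = a := by
    intro n
    induction n with
    | zero => rfl
    | succ n ih => rw [pow_succ, Equiv.Perm.mul_apply, h, ih]
  exact this 5

theorem og_M24 {R : Subgroup M24} (hR : R ≠ ⊤) : OrdGap M24 R := by
  by_contra hn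
  have hc := fact24
  rcases m24 (X := R.map M24.subtype) (by
      rintro _ ⟨g, -, rfl⟩
      exact g.2) (dvd_map hn (by norm_num) (by rw [hc]; norm_num))
    (dvd_map hn (by norm_num) (by rw [hc]; norm_num)) (dvd_map hn (by norm_num) (by rw [hc]; norm_num))
    (dvd_map hn (by norm_num) (by rw [hc]; norm_num)) with h | ⟨a, ha⟩
  · apply hR
    apply eq_top_of_card
    rw [← card_map_subtype, hc]
    exact h
  · obtain ⟨m, hm, ho⟩ := exists_order_of_not_ordGap hn g10
    rw [orderOf_g10] at ho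
    exact no_fix_ten m.2 (by rw [Subgroup.orderOf_coe]; exact ho) a (ha _ (Subgroup.mem_map_of_mem M24.subtype hm))

/-! ### `M₁₂`: orders 10 and 4 -/

theorem og_M12 {R : Subgroup Spor.M12} (hR : R ≠ ⊤) : OrdGap Spor.M12 R := by
  have := finM12
  by_contra hn
  have hc := card_M12
  set X : Subgroup (Equiv.Perm GolayPt) := R.map Spor.M12.subtype with hXdef
  have hcX : Nat.card X = Nat.card R := card_map_subtype R
  have hX : X ≤ Spor.M12 := by
    rintro _ ⟨g, -, rfl⟩
    exact g.2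
  have h5 : 5 ∣ Nat.card X := dvd_map hn (by norm_num) (by rw [hc]; norm_num)
  have h11 : 11 ∣ Nat.card X := dvd_map hn (by norm_num) (by rw [hc]; norm_num)
  obtain ⟨m, hm, om⟩ := exists_order_of_not_ordGap hn a10
  obtain ⟨n, hnR, on⟩ := exists_order_of_not_ordGap hn a4
  rw [orderOf_a10] at om
  rw [orderOf_a4] at on
  rcases trans_or_fix hX h11 with ⟨a, -, ha⟩ | htr
  · exact no_fix_ten (x := (m : Equiv.Perm GolayPt)) m.2.1 (by rw [Subgroup.orderOf_coe]; exact om) a
      (ha _ (Subgroup.mem_map_of_mem Spor.M12.subtype hm))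
  have ho : ∀ a ∈ dd, (orb X a).card = 12 := by
    intro a ha
    rw [htr a ha, card_dd]
  have h0 := card_orb_mul X (some 0)
  rw [ho _ zero_mem_dd] at h0
  have hS := card_St_M11 hX (dvd_St (by norm_num) h5 (ho _ zero_mem_dd) (by norm_num))
    (dvd_St (by norm_num) h11 (ho _ zero_mem_dd) (by norm_num))
  rcases hS with hS | hS | hS
  · -- 660: the stabilizers have odd order
    rw [hS] at h0
    obtain ⟨a, ha, h1⟩ := sq_fix12 (g := n) (by rw [← on, pow_orderOf_eq_one])
    have h2 := card_orb_mul X a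
    rw [ho a ha, ← h0] at h2
    have h3 : ((n ^ 2 : Spor.M12) : Equiv.Perm GolayPt) ∈ St X a :=
      ⟨Subgroup.mem_map_of_mem Spor.M12.subtype (R.pow_mem hnR 2), h1⟩
    have h4 : 2 ∣ Nat.card (St X a) := by
      have h5 := Subgroup.orderOf_dvd_natCard _ h3
      rwa [Subgroup.orderOf_coe, orderOf_pow_of_dvd (by norm_num) (by rw [on]; norm_num), on] at h5
    omega
  · -- 7920
    rw [hS] at h0
    have hsimp : IsSimpleGroup R := isSimple_of_iso11 (iso11_M12.sub R) (Or.inr (by rw [← hcX, ← h0]))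
    have hM : Cfsg.IsM11 R := ⟨hsimp, by rw [← hcX, ← h0]⟩
    have o5 : orderOf ((⟨m, hm⟩ : R) ^ 2) = 5 := by
      rw [orderOf_pow_of_dvd (by norm_num) (by rw [Subgroup.orderOf_mk, om]; norm_num), Subgroup.orderOf_mk, om]
    have h1 := Cfsg.Agent.SporadicA.M11Facts.card_centralizer_five hM o5
    have h2 : (⟨m, hm⟩ : R) ∈ Subgroup.centralizer ({(⟨m, hm⟩ : R) ^ 2} : Set R) :=
      Subgroup.mem_centralizer_singleton_iff.2 ((Commute.refl (⟨m, hm⟩ : R)).pow_right 2).eq
    have h3 := Subgroup.orderOf_dvd_natCard _ h2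
    rw [h1, Subgroup.orderOf_mk, om] at h3
    norm_num at h3
  · rw [hS] at h0
    apply hR
    apply eq_top_of_card
    rw [← hcX, ← h0, card_M12]

/-! ### `M₁₁`: order 8 -/

theorem mem_M11 {P : ℕ} (h : (isPerm P && isAut P) = true)
    (hd : ((List.range 24).all fun i => !(ddM.testBit i) || ddM.testBit (Cfsg.Agent.SporadicA.GolayPerm.papp P i)) = true)
    (h2 : Cfsg.Agent.SporadicA.GolayPerm.papp P 0 = 0) : (mk P h : Equiv.Perm GolayPt) ∈ Spor.M11 := by
  refine ⟨mk_mem12 h hd, ?_⟩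
  show _ ∈ MulAction.stabilizer _ _
  rw [MulAction.mem_stabilizer_iff]
  exact mk_apply P h idx_zero h2

/-- an element of order 8 -/
noncomputable def g8 : Spor.M11 :=
  ⟨mk 902939067841553011850400168704774208 (by decide +kernel),
    mem_M11 (by decide +kernel) (by decide +kernel) (by decide +kernel)⟩

theorem orderOf_g8 : orderOf g8 = 8 := by
  have := orderOf_tab (isTab_mk 902939067841553011850400168704774208 (by decide +kernel)) (n := 8)
    (by decide +kernel)
  rw [← Subgroup.orderOf_coe] at this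
  rw [← Subgroup.orderOf_coe]
  exact this

theorem og_M11 {R : Subgroup Spor.M11} (hR : R ≠ ⊤) : OrdGap Spor.M11 R := by
  have hG := Cfsg.Agent.Cit.Eleven.isM11 (L := Spor.M11) ⟨MulEquiv.refl _⟩
  have hc := hG.2
  have hfin : Finite Spor.M11 := Nat.finite_of_card_ne_zero (by rw [hc]; norm_num)
  by_contra hn
  have h5 := prime_dvd_of_not_ordGap hn Nat.prime_five (by rw [hc]; norm_num)
  have h11 := prime_dvd_of_not_ordGap hn (p := 11) (by norm_num) (by rw [hc]; norm_num)
  have h8 := dvd_card_of_not_ordGap hn g8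
  rw [orderOf_g8] at h8
  rcases card_sub_m11 hG h5 h11 with h | h | h
  · rw [h] at h8; norm_num at h8
  · rw [h] at h8; norm_num at h8
  · exact hR (eq_top_of_card (h.trans hc.symm))

/-- **`M₁₁`** -/
theorem ogMax_m11 {T : Type*} [Group T] (h : Cfsg.Spor.IsoM11 T) : OGMax T := by
  obtain ⟨e⟩ := h
  exact OGMax.congr e.symm fun M hM => og_M11 hM.1

/-- **`M₁₂`** -/
theorem ogMax_m12 {T : Type*} [Group T] (h : Cfsg.Spor.IsoM12 T) : OGMax T := by
  obtain ⟨e⟩ := h
  exact OGMax.congr e.symm fun M hM => og_M12 hM.1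

/-- **`M₂₂`** -/
theorem ogMax_m22 {T : Type*} [Group T] (h : Cfsg.Spor.IsoM22 T) : OGMax T := by
  obtain ⟨e⟩ := h
  exact OGMax.congr e.symm fun M hM => og_M22 hM.1

/-- **`M₂₃`** -/
theorem ogMax_m23 {T : Type*} [Group T] (h : Cfsg.Spor.IsoM23 T) : OGMax T := by
  obtain ⟨e⟩ := h
  exact OGMax.congr e.symm fun M hM => og_M23 hM.1

/-- **`M₂₄`** -/
theorem ogMax_m24 {T : Type*} [Group T] (h : Cfsg.Spor.IsoM24 T) : OGMax T := by
  obtain ⟨e⟩ := h
  exact OGMax.congr e.symm fun M hM => og_M24 hM.1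

end Cfsg.Agent.H604.Sax.Mathieu
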