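import Cfsg.Agent.H573.Spor.Co0

/-!
# Elements of orders 9 and 30 of `McL` (helper604)

`gN` of order 9, `gT` of order 30; both are in `McL`, so in `Co2` and `Co3`.
-/

set_option autoImplicit false
set_option maxRecDepth 100000

namespace Cfsg.Agent.H604.Sax.McLEl

open Cfsg Cfsg.Agent.SporadicA Cfsg.Agent.SporadicStructure.Co0Matrix Cfsg.Agent.CoOneType.CoEval
open Cfsg.Agent.LThreeCo1.Ev Cfsg.Agent.H573.Spor.Co0

/-- matrix code -/
def nN : ℕ := 0xac6318be2f8c62f7c6718bdf18c6338c6316bdb38c62f9c5f18bdf18b62f8b6318ce2f6c62f9c5f18bded8c62f7bdf37c5f19bdf18ce2f7c62f7ce717cdef9c5f17cdf18be337c62f7be717be6f7c5f17bdf18be337c6339cdf18c6318bdaf8c6337c5f18cded8c5af8c62d8be2f8c62f9c5ed6cdf18c62f7be6f7c6719cdf18be2f9c62f7bdf18c6318ce338c62f7c5f16bdf16c5af8c6316be2f6c62f7c5f18ce716c62f8c5ad6ce2f8c6337c5f18bdf18c62f7bdef9c5f17be718ce2f9c6337bdf18c5b18be2f8c5af9c5f18be718c5af8c6318be2f8b6339b5f18bdf16c62f8c6318cdaf8c62f7b5ed8be718c62f8b5b18be338c62f7b5f18cdf18c62f9bdef7c5f17bdf18beaf7c62f7bded8c6318ce2f8b5af7c5f18cdf18b62f8c6318be336c5b37c5ed8bdf18c62f8c62d8be338b62f7c5f18be6d8c62f7cdf37c6717be718be2f7c62f9bdf18b6318be2f8c6337c5f16be718b62f9bdef7c5f17bdf18bdaf7c62f7bdf5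

/-- matrix code -/
def nT : ℕ := 0xa4210942109425084a5284250842548429094210941d0a49d2841d0841d0939ce849d284a0e9421073a1294a0e949d283a5283a0e9421074a1273a0e8421474210941d084a4e841d085250842107421074250849d2851d0a42508421094210941d083a4e85250a41d0842109529094250839ce841d0842508421094214741d4849ce8425084250842907421074250a3a4e842508425084210742149425483a52841d0841d08421075290741d084a5284250841d0949d2849ce83a129421093a0e93a0e8421074210941d0839d2a4254842508521094210751d083a52841d084250852107421095250849ce84250841d094a4e849ce83a127421074a1274a0e94a4e83a5283a0e7421093a0e94a0e84210942107425084a4ea41d4841d093a52849d284a0e7421094a0e73a0e93a5283a4e84a127421073a1293a0e939ce83a4e84a129421094a0e74a0e842149421074250839d284250851d0a421074210741d0839ce841d0841d4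

theorem okNN : okN nN = true := by decide +kernel
theorem okT : okN nT = true := by decide +kernel

/-- of order 9 -/
def gN : Co0 := mk (ok_of_okN okNN)
theorem repN : Rep gN (dec nN) := rep_mk _

/-- of order 30 -/
def gT : Co0 := mk (ok_of_okN okT)
theorem repT : Rep gT (dec nT) := rep_mk _

/-- the elements -/
def e : ℕ → Co0
  | 0 => gN
  | _ => gT

/-- their matrices -/
def Ms : ℕ → List (List ℤ)
  | 0 => dec nN
  | _ => dec nT

theorem hM : ∀ i, Rep (e i) (Ms i)
  | 0 => repN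
  | _ + 1 => repT

theorem pow_zero_word (i k : ℕ) : ((List.replicate k i).map e).prod = e i ^ k := by
  rw [List.map_replicate, List.prod_replicate]

theorem n_pow : gN ^ 9 = 1 := by
  have h := eq_of_eqB hM (w := List.replicate 9 0) (w' := []) (by decide +kernel)
  rw [pow_zero_word] at h
  simpa [e] using h

theorem n_ne : gN ^ 3 ≠ 1 := by
  have h := ne_of_neB' hM (w := List.replicate 3 0) (w' := []) (by decide +kernel)
  rw [pow_zero_word] at h
  simpa [e] using h

theorem t_pow : gT ^ 30 = 1 := by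
  have h := eq_of_eqB hM (w := List.replicate 30 1) (w' := []) (by decide +kernel)
  rw [pow_zero_word] at h
  simpa [e] using h

theorem t_ne {k : ℕ} (hk : neB' Ms (List.replicate k 1) [] = true) : gT ^ k ≠ 1 := by
  have h := ne_of_neB' hM (w := List.replicate k 1) (w' := []) hk
  rw [pow_zero_word] at h
  simpa [e] using h

theorem t_fifteen : gT ^ 15 ≠ 1 := t_ne (by decide +kernel)
theorem t_ten : gT ^ 10 ≠ 1 := t_ne (by decide +kernel)
theorem t_six : gT ^ 6 ≠ 1 := t_ne (by decide +kernel)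

theorem orderOf_gN : orderOf gN = 9 := by
  have : Fact (Nat.Prime 3) := ⟨by norm_num⟩
  exact orderOf_eq_prime_pow (p := 3) (n := 1) (by simpa using n_ne) (by simpa using n_pow)

theorem orderOf_gT : orderOf gT = 30 := by
  refine orderOf_eq_of_pow_and_pow_div_prime (by norm_num) t_pow fun p hp hd => ?_
  have h1 : p ∈ Nat.primeFactors 30 := Nat.mem_primeFactors.2 ⟨hp, hd, by norm_num⟩
  have h2 : Nat.primeFactors 30 = {2, 3, 5} := by decide +kernel
  rw [h2] at h1
  simp only [Finset.mem_insert, Finset.mem_singleton] at h1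
  rcases h1 with rfl | rfl | rfl
  · exact t_fifteen
  · exact t_ten
  · exact t_six

theorem memN : gN.1 ∈ Spor.McL := mem_McL repN (by decide +kernel) (by decide +kernel)
theorem memT : gT.1 ∈ Spor.McL := mem_McL repT (by decide +kernel) (by decide +kernel)
theorem memN2 : gN.1 ∈ Spor.Co2 := mem_Co2 repN (by decide +kernel)
theorem memN3 : gN.1 ∈ Spor.Co3 := mem_Co3 repN (by decide +kernel)

theorem exists_nine_mcl : ∃ g : Spor.McL, orderOf g = 9 :=
  ⟨⟨gN.1, memN⟩, by rw [Subgroup.orderOf_mk, Subgroup.orderOf_coe, orderOf_gN]⟩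

theorem exists_thirty_mcl : ∃ g : Spor.McL, orderOf g = 30 :=
  ⟨⟨gT.1, memT⟩, by rw [Subgroup.orderOf_mk, Subgroup.orderOf_coe, orderOf_gT]⟩

theorem exists_nine_co2 : ∃ g : Spor.Co2, orderOf g = 9 :=
  ⟨⟨gN.1, memN2⟩, by rw [Subgroup.orderOf_mk, Subgroup.orderOf_coe, orderOf_gN]⟩

theorem exists_nine_co3 : ∃ g : Spor.Co3, orderOf g = 9 :=
  ⟨⟨gN.1, memN3⟩, by rw [Subgroup.orderOf_mk, Subgroup.orderOf_coe, orderOf_gN]⟩

end Cfsg.Agent.H604.Sax.McLEl
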