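import Cfsg.Agent.H604.Sax.Tops
import Cfsg.Agent.H604.Sax.McLEl
import Cfsg.Agent.H604.Sax.NoNine
import Cfsg.Agent.H604.Cop.Conway
import Cfsg.Agent.H537.CopDefs
import Cfsg.Agent.H848.McLLocal
import Cfsg.Agent.H904.HSIso
import Cfsg.Agent.CTwoTab.HS
import Cfsg.Agent.H267.Sp.SpecAlt
import Cfsg.Agent.H938.Sax.Base

/-!
# `OGMax` for `HS`, `McL`, `Co2`, `Co3` (helper604, task 1613)

The proper subgroups of order divisible by all the primes are `M22` in `HS`, `M22` or `A11` in `McL`, `M23` or `M24` in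
`Co3`, `M23`, `2^11.M23` or `M24` in `Co2` (numerically); elements of order 10 (`HS`), 30 (`McL`), 9 (`Co2`, `Co3`) are
missing.
-/

set_option autoImplicit false

namespace Cfsg.Agent.H604.Sax

open Subgroup
open Cfsg Cfsg.Agent.OrdDiv
open Cfsg.Agent.H257.El
open Cfsg.Agent.H537.Cop
open Cfsg.Agent.H938.Sax

universe u

/-! ### The situation -/

theorem full_of_not_ordGap {T : Type*} [Group T] [Finite T] {R : Subgroup T} {n : ℕ} (hn : Nat.card T = n)
    (h : ¬ OrdGap T R) (p : ℕ) (hp : p.Prime) (hd : p ∣ n) : p ∣ Nat.card R :=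
  prime_dvd_of_not_ordGap h hp (by rw [hn]; exact hd)

section

variable {T : Type u} [Group T]

theorem ful_hs (tab : OrderTable.{u}) (known : Known.{u}) (h : Spor.IsoHS T) {R : Subgroup T} (hR : R ≠ ⊤)
    (full : ∀ p : ℕ, p.Prime → p ∣ 44352000 → p ∣ Nat.card R) :
    Ful T 44352000 [(2,9),(3,2),(5,3),(7,1),(11,1)] 11 R where
  tab := tab
  known := known
  card := NotCT.Orders.hs h
  valid := by decide +kernel
  prime := by norm_num
  dvd := by norm_num
  sq := by norm_num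
  self := fun _ hx => H904.HSIso.card_eleven h hx
  ne := hR
  full := full

theorem ful_mcl (tab : OrderTable.{u}) (known : Known.{u}) (h : Spor.IsoMcL T) {R : Subgroup T} (hR : R ≠ ⊤)
    (full : ∀ p : ℕ, p.Prime → p ∣ 898128000 → p ∣ Nat.card R) :
    Ful T 898128000 [(2,7),(3,6),(5,3),(7,1),(11,1)] 11 R where
  tab := tab
  known := known
  card := NotCT.Orders.mcl h
  valid := by decide +kernel
  prime := by norm_num
  dvd := by norm_num
  sq := by norm_num
  self := h.elim fun e => SC.congr e fun _ hx => H848.McLLocal.card_eleven hx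
  ne := hR
  full := full

theorem ful_co2 (tab : OrderTable.{u}) (known : Known.{u}) (h : Spor.IsoCo2 T) {R : Subgroup T} (hR : R ≠ ⊤)
    (full : ∀ p : ℕ, p.Prime → p ∣ 42305421312000 → p ∣ Nat.card R) :
    Ful T 42305421312000 [(2,18),(3,6),(5,3),(7,1),(11,1),(23,1)] 23 R where
  tab := tab
  known := known
  card := NotCT.Orders.co2 h
  valid := by decide +kernel
  prime := by norm_num
  dvd := by norm_num
  sq := by norm_num
  self := h.elim fun e => SC.congr e fun _ hx => H604.Cop.Conway.self_co2 _ hx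
  ne := hR
  full := full

theorem ful_co3 (tab : OrderTable.{u}) (known : Known.{u}) (h : Spor.IsoCo3 T) {R : Subgroup T} (hR : R ≠ ⊤)
    (full : ∀ p : ℕ, p.Prime → p ∣ 495766656000 → p ∣ Nat.card R) :
    Ful T 495766656000 [(2,10),(3,7),(5,3),(7,1),(11,1),(23,1)] 23 R where
  tab := tab
  known := known
  card := NotCT.Orders.co3 h
  valid := by decide +kernel
  prime := by norm_num
  dvd := by norm_num
  sq := by norm_num
  self := h.elim fun e => SC.congr e fun _ hx => H604.Cop.Conway.self_co3 _ hx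
  ne := hR
  full := full

/-! ### The subgroups -/

/-- **a proper subgroup of `HS` of order divisible by 2, 3, 5, 7, 11 is `M22`** -/
theorem full_hs (tab : OrderTable.{u}) (known : Known.{u}) (h : Spor.IsoHS T) {R : Subgroup T} (hR : R ≠ ⊤)
    (full : ∀ p : ℕ, p.Prime → p ∣ 44352000 → p ∣ Nat.card R) : Spor.IsoM22 R := by
  have : Finite T := Nat.finite_of_card_ne_zero (by rw [NotCT.Orders.hs h]; norm_num)
  obtain ⟨M, _, _, ⟨e⟩, h1⟩ := top_hs (ful_hs tab known h hR full)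
  obtain ⟨f⟩ := (show Spor.IsoM22 M from h1)
  exact ⟨e.trans f⟩

/-- **a proper subgroup of `McL` of order divisible by 2, 3, 5, 7, 11 is `M22` (or `A11`)** -/
theorem full_mcl (tab : OrderTable.{u}) (known : Known.{u}) (h : Spor.IsoMcL T) {R : Subgroup T} (hR : R ≠ ⊤)
    (full : ∀ p : ℕ, p.Prime → p ∣ 898128000 → p ∣ Nat.card R) :
    Spor.IsoM22 R ∨ Nonempty (R ≃* alternatingGroup (Fin 11)) := by
  have : Finite T := Nat.finite_of_card_ne_zero (by rw [NotCT.Orders.mcl h]; norm_num)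
  obtain ⟨M, _, _, ⟨e⟩, h1 | h1⟩ := top_mcl (ful_mcl tab known h hR full)
  · obtain ⟨f⟩ := (show Spor.IsoM22 M from h1)
    exact Or.inl ⟨e.trans f⟩
  · obtain ⟨f⟩ := (show Nonempty (M ≃* alternatingGroup (Fin 11)) from h1)
    exact Or.inr ⟨e.trans f⟩

/-- **a proper subgroup of `Co3` of order divisible by 2, 3, 5, 7, 11, 23 is `M23` (or `M24`)** -/
theorem full_co3 (tab : OrderTable.{u}) (known : Known.{u}) (h : Spor.IsoCo3 T) {R : Subgroup T} (hR : R ≠ ⊤)
    (full : ∀ p : ℕ, p.Prime → p ∣ 495766656000 → p ∣ Nat.card R) : Spor.IsoM23 R ∨ Spor.IsoM24 R := by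
  have : Finite T := Nat.finite_of_card_ne_zero (by rw [NotCT.Orders.co3 h]; norm_num)
  obtain ⟨M, _, _, ⟨e⟩, h1 | h1⟩ := top_co3 (ful_co3 tab known h hR full)
  · obtain ⟨f⟩ := (show Spor.IsoM23 M from h1)
    exact Or.inl ⟨e.trans f⟩
  · obtain ⟨f⟩ := (show Spor.IsoM24 M from h1)
    exact Or.inr ⟨e.trans f⟩

/-! ### HS -/

theorem exists_ten_hs (h : Spor.IsoHS T) : ∃ g : T, orderOf g = 10 := by
  obtain ⟨D⟩ := KFacts.HS.exists_mod h
  have : Finite T := KFacts.HS.DFour.fin D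
  have : Fact (Nat.Prime 5) := ⟨by norm_num⟩
  have h1 : 5 ∣ Nat.card (KFacts.HS.DFour.LA D) := by
    rw [KFacts.HS.DFour.card_LA]; norm_num
  obtain ⟨y, hy⟩ := exists_prime_orderOf_dvd_card' (G := KFacts.HS.DFour.LA D) 5 h1
  have h2 := CTwoTab.HS.LA_le D y.2
  rw [mem_centralizer_singleton_iff] at h2
  have h3 : orderOf (KFacts.HS.DFour.wB D) = 2 :=
    orderOf_eq_prime (by rw [pow_two, KFacts.HS.DFour.wB_sq]) (KFacts.HS.DFour.wB_ne D)
  refine ⟨KFacts.HS.DFour.wB D * y, ?_⟩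
  exact orderOf_mul_of_comm (r := 2) (s := 5) (by norm_num) (by norm_num) (by norm_num) h3
    (by rw [Subgroup.orderOf_coe]; exact hy) h2.symm

theorem og_hs (tab : OrderTable.{u}) (known : Known.{u}) (h : Spor.IsoHS T) : OGMax T := by
  have : Finite T := Nat.finite_of_card_ne_zero (by rw [NotCT.Orders.hs h]; norm_num)
  intro R hR
  by_contra hn
  have h1 := full_hs tab known h hR.1 (full_of_not_ordGap (NotCT.Orders.hs h) hn)
  obtain ⟨g, hg⟩ := exists_ten_hs h
  obtain ⟨m, hm, ho⟩ := exists_order_of_not_ordGap hn g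
  exact NoNine.iso_m22 h1 ⟨m, hm⟩ (by rw [Subgroup.orderOf_mk, ho, hg])

/-! ### McL -/

theorem W_thirty : H357.Sp.W 30 = 10 := by
  rw [show (30 : ℕ) = 2 * (3 * 5) by norm_num, H267.Sp.SpecAlt.W_mul (by norm_num) (by norm_num) (by norm_num),
    H267.Sp.SpecAlt.W_mul (by norm_num) (by norm_num) (by norm_num),
    show H357.Sp.W 2 = 2 from H267.Sp.SpecAlt.W_pow (p := 2) (j := 1) (by norm_num) (by norm_num),
    show H357.Sp.W 3 = 3 from H267.Sp.SpecAlt.W_pow (p := 3) (j := 1) (by norm_num) (by norm_num),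
    show H357.Sp.W 5 = 5 from H267.Sp.SpecAlt.W_pow (p := 5) (j := 1) (by norm_num) (by norm_num)]

theorem a11_no_thirty (g : alternatingGroup (Fin 11)) : orderOf g ≠ 30 := by
  intro h
  have h1 : orderOf (g : Equiv.Perm (Fin 11)) = 30 := by rw [Subgroup.orderOf_coe, h]
  have h2 := H267.Sp.SpecAlt.up_alt g.2 (by rw [h1]; decide)
  rw [h1, W_thirty] at h2
  omega

theorem og_mcl (tab : OrderTable.{u}) (known : Known.{u}) (h : Spor.IsoMcL T) : OGMax T := by
  have : Finite T := Nat.finite_of_card_ne_zero (by rw [NotCT.Orders.mcl h]; norm_num)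
  intro R hR
  by_contra hn
  obtain ⟨e⟩ := h
  obtain ⟨g, hg⟩ := McLEl.exists_thirty_mcl
  obtain ⟨m, hm, ho⟩ := exists_order_of_not_ordGap hn (e.symm g)
  rw [MulEquiv.orderOf_eq, hg] at ho
  rcases full_mcl tab known ⟨e⟩ hR.1 (full_of_not_ordGap (NotCT.Orders.mcl ⟨e⟩) hn) with h1 | ⟨⟨f⟩⟩
  · refine NoNine.iso_m22 h1 ((⟨m, hm⟩ : R) ^ 3) ?_
    rw [orderOf_pow_of_dvd (by norm_num) (by rw [Subgroup.orderOf_mk, ho]; norm_num), Subgroup.orderOf_mk, ho]
  · exact a11_no_thirty (f ⟨m, hm⟩) (by rw [MulEquiv.orderOf_eq, Subgroup.orderOf_mk, ho])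

/-! ### Co3 -/

theorem og_co3 (tab : OrderTable.{u}) (known : Known.{u}) (h : Spor.IsoCo3 T) : OGMax T := by
  have : Finite T := Nat.finite_of_card_ne_zero (by rw [NotCT.Orders.co3 h]; norm_num)
  intro R hR
  by_contra hn
  obtain ⟨e⟩ := h
  obtain ⟨g, hg⟩ := McLEl.exists_nine_co3
  obtain ⟨m, hm, ho⟩ := exists_order_of_not_ordGap hn (e.symm g)
  rw [MulEquiv.orderOf_eq, hg] at ho
  rcases full_co3 tab known ⟨e⟩ hR.1 (full_of_not_ordGap (NotCT.Orders.co3 ⟨e⟩) hn) with h1 | h1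
  · exact NoNine.iso_m23 h1 ⟨m, hm⟩ (by rw [Subgroup.orderOf_mk, ho])
  · exact NoNine.iso_m24 h1 ⟨m, hm⟩ (by rw [Subgroup.orderOf_mk, ho])

/-! ### Co2 -/

theorem og_co2 (tab : OrderTable.{u}) (known : Known.{u}) (h : Spor.IsoCo2 T) : OGMax T := by
  have : Finite T := Nat.finite_of_card_ne_zero (by rw [NotCT.Orders.co2 h]; norm_num)
  intro R hR
  by_contra hn
  obtain ⟨e⟩ := h
  obtain ⟨g, hg⟩ := McLEl.exists_nine_co2
  obtain ⟨m, hm, ho⟩ := exists_order_of_not_ordGap hn (e.symm g)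
  rw [MulEquiv.orderOf_eq, hg] at ho
  obtain ⟨O, hO, N, hi, hN, h1⟩ := top_co2 (ful_co2 tab known ⟨e⟩ hR.1
    (full_of_not_ordGap (NotCT.Orders.co2 ⟨e⟩) hn))
  have hx : orderOf (⟨m, hm⟩ : R) = 9 := by rw [Subgroup.orderOf_mk, ho]
  rcases h1 with ⟨h1, h2⟩ | ⟨h1, h2⟩
  · obtain ⟨y, hy⟩ := push (O := O) (N := N) (m := 9) (by
      rcases h2 with h2 | h2 <;> rw [h2] <;> norm_num) (by rw [hi]; norm_num) hx
    exact NoNine.iso_m23 h1 y hy
  · obtain ⟨y, hy⟩ := push (O := O) (N := N) (m := 9) (by rw [h2]; norm_num) (by rw [hi]; norm_num) hx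
    exact NoNine.iso_m24 h1 y hy

end

end Cfsg.Agent.H604.Sax
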