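import Cfsg.Agent.PreUniqCo.FiveCo
import Cfsg.Agent.S0126
import Cfsg.Agent.H604.Sax.RowsCo
import Cfsg.Agent.H904.El.Eng
import Cfsg.Agent.H278.ElDefs
import Cfsg.Agent.S2070
import Cfsg.Agent.S2071
import Cfsg.Agent.H55.OutGen

/-!
# TEAM ELUSIVE: the rows `Co2` and `Co3` (helper604)

Every elementary abelian subgroup of order 25 of a subgroup of `Co0` with a fixed vector contains elements of order
five with fixed spaces of dimensions 4 and 8 : the dimensions `d_i` of the six subgroups of order 5 satisfy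
`d_1 + ... + d_6 = 24 + 5 c` with `c ≥ 1`.
-/

set_option autoImplicit false

namespace Cfsg.Agent.H604.Sax

open Subgroup Module Polynomial
open Cfsg Cfsg.Spor Cfsg.Agent.OrdDiv
open Cfsg.Agent.H257.El
open Cfsg.Agent.PreUniqCo
open Cfsg.Agent.SigZeroCo2.Rank (fix mem_fix)
open Cfsg.Agent.SigZeroCo2.Lin (rep Sp)

universe u

/-! ### No elements of order 125 -/

theorem movr_eq_bot {V : Type*} [AddCommGroup V] [Module ℚ V] [FiniteDimensional ℚ V] (hV : finrank ℚ V < 100)
    {f : Module.End ℚ V} : Rat.movr 5 (f ^ 25) = ⊥ := by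
  have h5 : Fact (Nat.Prime 5) := ⟨by norm_num⟩
  have hinv : ∀ v ∈ Rat.movr 5 (f ^ 25), f v ∈ Rat.movr 5 (f ^ 25) := by
    intro v hv
    rw [Rat.movr, LinearMap.mem_ker] at hv ⊢
    have h1 : Commute (∑ k ∈ Finset.range 5, (f ^ 25) ^ k) f :=
      Commute.sum_left _ _ _ fun k _ => by
        rw [← pow_mul]
        exact (Commute.refl f).pow_left _
    have h2 := congrArg (fun g : Module.End ℚ V => g v) h1.eq
    simp only [Module.End.mul_apply] at h2
    rw [h2, hv, map_zero]
  have h1 : Nat.totient 125 ∣ finrank ℚ (Rat.movr 5 (f ^ 25)) := by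
    refine Rat.dvd_finrank_of_aeval (by norm_num) (f.restrict hinv) ?_
    ext v
    have h2 : ∀ P : ℚ[X], ((aeval (f.restrict hinv) P v : Rat.movr 5 (f ^ 25)) : V) = aeval f P (v : V) := by
      intro P
      induction P using Polynomial.induction_on' with
      | add p q hp hq => rw [map_add, map_add, LinearMap.add_apply, LinearMap.add_apply, Submodule.coe_add, hp, hq]
      | monomial n a =>
        rw [aeval_monomial, aeval_monomial, Module.End.mul_apply, Module.End.mul_apply,
          Module.algebraMap_end_apply, Module.algebraMap_end_apply, Module.End.pow_restrict]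
        rfl
    rw [h2]
    have h3 : cyclotomic (5 ^ (2 + 1)) ℚ = ∑ i ∈ Finset.range 5, (X ^ 5 ^ 2) ^ i :=
      cyclotomic_prime_pow_eq_geom_sum (by norm_num)
    have h4 : (∑ k ∈ Finset.range 5, (f ^ 25) ^ k) (v : V) = 0 := v.2
    have h6 : aeval f (cyclotomic 125 ℚ) = ∑ k ∈ Finset.range 5, (f ^ 25) ^ k := by
      rw [show (125 : ℕ) = 5 ^ (2 + 1) by norm_num, h3, map_sum]
      refine Finset.sum_congr rfl fun k _ => ?_
      rw [map_pow, map_pow, aeval_X, show (5 : ℕ) ^ 2 = 25 by norm_num]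
    rw [h6, h4]
    rfl
  have h2 : Nat.totient 125 = 100 := by decide +kernel
  rw [h2] at h1
  have h3 := Submodule.finrank_le (Rat.movr 5 (f ^ 25))
  have h4 : finrank ℚ (Rat.movr 5 (f ^ 25)) = 0 := Nat.eq_zero_of_dvd_of_lt h1 (by omega)
  exact Submodule.finrank_eq_zero.1 h4

theorem fix_eq_top {V : Type*} [AddCommGroup V] [Module ℚ V] [FiniteDimensional ℚ V] (hV : finrank ℚ V < 100)
    {f : Module.End ℚ V} (hf : (f ^ 25) ^ 5 = 1) : fix (f ^ 25) = ⊤ := by
  have h1 := Rat.finrank_fix_add_movr (r := 5) (by norm_num) (f := f ^ 25) hf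
  rw [movr_eq_bot hV, finrank_bot, add_zero] at h1
  exact Submodule.eq_top_of_finrank_eq h1

theorem no_order_125 {g : Co0} (h : (g ^ 25) ^ 5 = 1) : g ^ 25 = 1 := by
  by_contra hne
  apply LatCo.fix_ne_top hne
  have e1 : rep (g ^ 25) = rep g ^ 25 := map_pow rep g 25
  rw [e1]
  apply fix_eq_top (by rw [FiveCo.finrank_Sp]; norm_num)
  rw [← e1]
  have e2 : rep ((g ^ 25) ^ 5) = rep (g ^ 25) ^ 5 := map_pow rep (g ^ 25) 5
  rw [← e2, h, map_one]

/-! ### Two classes of elements of order five -/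

section

variable {H : Type*} [Group H] [Finite H] (φ : H →* Co0)

theorem exists_two (hφ : Function.Injective φ) {v : leechLattice} (hv : v ≠ 0) (hfix : ∀ h, φ h • v = v)
    (hc : 5 ^ 3 ∣ Nat.card H) : ∃ x y : H, orderOf x = 5 ∧ orderOf y = 5 ∧
      finrank ℚ (fix (rep (φ x))) ≠ finrank ℚ (fix (rep (φ y))) := by
  have h5 : Fact (Nat.Prime 5) := ⟨by norm_num⟩
  obtain ⟨P⟩ : Nonempty (Sylow 5 H) := inferInstance
  have hP : 5 ^ 3 ∣ Nat.card P := P.pow_dvd_card_of_pow_dvd_card hc
  have hnc : ¬ IsCyclic P := by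
    intro hcy
    obtain ⟨z, hz⟩ := hcy.exists_generator
    have h1 : orderOf z = Nat.card P := orderOf_eq_card_of_forall_mem_zpowers hz
    obtain ⟨m, hm⟩ := hP
    set w : P := z ^ m with hw
    have h2 : orderOf w = 125 := by
      rw [hw, orderOf_pow, h1, hm]
      have hm0 : 0 < m := by
        rcases Nat.eq_zero_or_pos m with h | h
        · rw [h, mul_zero] at hm
          exact absurd hm Nat.card_pos.ne'
        · exact h
      rw [Nat.gcd_eq_right (dvd_mul_left m _), Nat.mul_div_cancel _ hm0]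
      norm_num
    have h3 : orderOf (φ (w : H)) = 125 := by rw [orderOf_injective φ hφ, Subgroup.orderOf_coe, h2]
    have h4 := no_order_125 (g := φ (w : H)) (by
      rw [← pow_mul]
      exact orderOf_dvd_iff_pow_eq_one.1 (by rw [h3]))
    have h6 := orderOf_dvd_of_pow_eq_one h4
    rw [h3] at h6
    norm_num at h6
  obtain ⟨A, -, hA, hAc⟩ := S0126.result (by norm_num) P.isPGroup' hnc
  set E : Subgroup H := A.map (P : Subgroup H).subtype with hE
  have hEa : IsElementaryAbelian 5 E := by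
    constructor
    · constructor
      constructor
      rintro ⟨_, a, ha, rfl⟩ ⟨_, b, hb, rfl⟩
      apply Subtype.ext
      have := congrArg (fun z : A => ((z : P) : H)) (hA.1.is_comm.comm ⟨a, ha⟩ ⟨b, hb⟩)
      exact this
    · rintro _ ⟨a, ha, rfl⟩
      rw [← map_pow, hA.2 a ha, map_one]
  have hEc : Nat.card E = 25 := by
    rw [hE, Subgroup.card_map_of_injective (Subgroup.subtype_injective _), hAc]
    norm_num
  obtain ⟨a, ha, b, hb, ob, oab, hab⟩ := FiveCo.exists_gens_five hEa hEc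
  have pa : a ^ 5 = 1 := hEa.2 a ha
  have pb : b ^ 5 = 1 := hEa.2 b hb
  by_contra hcon
  push Not at hcon
  have hs := FivePair.sum_fix (a := rep (φ a)) (b := rep (φ b)) (by rw [← map_pow, ← map_pow, pa, map_one, map_one])
    (by rw [← map_pow, ← map_pow, pb, map_one, map_one]) ((hab.map φ).map rep)
  have he : ∀ m : ℕ, finrank ℚ (fix (rep (φ a) * rep (φ b) ^ m)) = finrank ℚ (fix (rep (φ b))) := by
    intro m
    have h1 : rep (φ a) * rep (φ b) ^ m = rep (φ (a * b ^ m)) := by rw [map_mul, map_mul, map_pow, map_pow]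
    rw [h1]
    exact hcon _ _ (oab m) ob
  rw [he, he, he, he, he, FiveCo.finrank_Sp] at hs
  have hd := FiveCo.dims_five (d := φ b) (by rw [orderOf_injective φ hφ, ob])
    (Rows.finrank_ne_zero hv (hfix b))
  have h0 : finrank ℚ (fix (rep (φ a)) ⊓ fix (rep (φ b)) : Submodule ℚ Sp) ≠ 0 := by
    intro h0
    have h1 : FixBound.tau v ∈ (fix (rep (φ a)) ⊓ fix (rep (φ b)) : Submodule ℚ Sp) :=
      ⟨FixBound.mem_fix_tau.2 (hfix a), FixBound.mem_fix_tau.2 (hfix b)⟩
    rw [Submodule.finrank_eq_zero.1 h0, Submodule.mem_bot] at h1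
    exact hv (FixBound.tau_injective (by rw [h1, map_zero]))
  rcases hd with hd | hd
  · rw [hd] at hs
    omega
  · rw [hd] at hs
    omega

/-- **a subgroup with cyclic Sylow 5-subgroups misses a class** -/
theorem false_of_conj (hφ : Function.Injective φ) {v : leechLattice} (hv : v ≠ 0) (hfix : ∀ h, φ h • v = v)
    (hc : 5 ^ 3 ∣ Nat.card H) {R : Subgroup H} (hR : ¬ 5 ^ 2 ∣ Nat.card R)
    (hcj : ∀ x : H, orderOf x = 5 → ∃ g : H, g * x * g⁻¹ ∈ R) : False := by
  have h5 : Nat.Prime 5 := by norm_num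
  obtain ⟨x, y, hx, hy, hne⟩ := exists_two φ hφ hv hfix hc
  obtain ⟨g, hg⟩ := hcj x hx
  obtain ⟨k, hk⟩ := hcj y hy
  have hconj : ∀ (g x : H), finrank ℚ (fix (rep (φ (g * x * g⁻¹)))) = finrank ℚ (fix (rep (φ x))) := by
    intro g x
    have h0 : φ (g * x * g⁻¹) = φ g * φ x * (φ g)⁻¹ := by rw [map_mul, map_mul, map_inv]
    rw [h0]
    apply le_antisymm
    · have h1 := FixBound.finrank_conj (φ g * φ x * (φ g)⁻¹) (φ g)⁻¹
      have h2 : (φ g)⁻¹ * (φ g * φ x * (φ g)⁻¹) * ((φ g)⁻¹)⁻¹ = φ x := by group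
      rwa [h2] at h1
    · exact FixBound.finrank_conj _ _
  have ho : ∀ (g x : H), orderOf x = 5 → orderOf (g * x * g⁻¹) = 5 := by
    intro g x hx
    rw [← hx]
    exact orderOf_injective (MulAut.conj g).toMonoidHom (MulAut.conj g).injective x
  have hx' : orderOf (⟨g * x * g⁻¹, hg⟩ : R) = 5 := by rw [Subgroup.orderOf_mk]; exact ho g x hx
  have hy' : orderOf (⟨k * y * k⁻¹, hk⟩ : R) = 5 := by rw [Subgroup.orderOf_mk]; exact ho k y hy
  have : Fact (Nat.Prime 5) := ⟨h5⟩
  obtain ⟨c, hcz⟩ := conj_of_cyclic (fun P => cyclic_of_sq hR P) hx' hy'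
  obtain ⟨j, hj⟩ := mem_zpowers_iff.1 hcz
  have h1 : (g * x * g⁻¹) ^ j = (c : H) * (k * y * k⁻¹) * (c : H)⁻¹ := congrArg Subtype.val hj
  -- the generators of the same group have the same fixed spaces
  have hle : ∀ (z w : H), w ∈ zpowers z → fix (rep (φ z)) ≤ fix (rep (φ w)) := by
    intro z w hw v hv
    obtain ⟨n, rfl⟩ := mem_powers_iff_mem_zpowers.2 hw
    change v ∈ fix (rep (φ (z ^ n)))
    rw [mem_fix] at hv ⊢
    rw [map_pow, map_pow]
    exact Rat.pow_apply_fix hv n
  have h2 : zpowers ((g * x * g⁻¹) ^ j) = zpowers (g * x * g⁻¹) := by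
    apply Subgroup.eq_of_le_of_card_ge (zpowers_le.2 (zpow_mem (mem_zpowers _) j))
    rw [Nat.card_zpowers, Nat.card_zpowers, ho g x hx, h1, ho _ _ (ho k y hy)]
  apply hne
  rw [← hconj g x, ← hconj k y, ← hconj (c : H) (k * y * k⁻¹), ← h1]
  apply le_antisymm
  · exact Submodule.finrank_mono (hle _ _ (zpow_mem (mem_zpowers _) j))
  · exact Submodule.finrank_mono (hle _ _ (by rw [h2]; exact mem_zpowers _))

end

/-! ### The rows -/

section rows

variable {T : Type u} [Group T]

theorem conj_of_not_der (hout : Nat.card (Out T) = 1) {R : Subgroup T} (hnd : ¬ H396.Der T R) {x : T}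
    (hx : (orderOf x).Prime) : ∃ g : T, g * x * g⁻¹ ∈ R := by
  by_contra hcon
  push Not at hcon
  refine hnd ⟨x, hx, fun α hα => ?_⟩
  have h1 : Subsingleton (Out T) := (Nat.card_eq_one_iff_unique.1 hout).1
  have h2 : (QuotientGroup.mk α : Out T) = QuotientGroup.mk 1 := Subsingleton.elim _ _
  rw [eq_comm, QuotientGroup.eq, inv_one, one_mul] at h2
  obtain ⟨s, hs⟩ := h2
  apply hcon s
  rw [← hs] at hα
  exact hα

/-- **Co3** -/
theorem der_co3 (tab : OrderTable.{u}) (known : Known.{u}) (h : Spor.IsoCo3 T) {R : Subgroup T} (hR : R ≠ ⊤) :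
    H396.Der T R := by
  have hfin : Finite T := Nat.finite_of_card_ne_zero (by rw [NotCT.Orders.co3 h]; norm_num)
  by_contra hnd
  have full : ∀ p : ℕ, p.Prime → p ∣ 495766656000 → p ∣ Nat.card R := by
    intro p hp hd
    by_contra hn
    exact hnd (H396.der_of_prime hp (by rw [NotCT.Orders.co3 h]; exact hd) hn)
  have h25 : ¬ 5 ^ 2 ∣ Nat.card R := by
    rcases full_co3 tab known h hR full with h1 | h1
    · rw [NotCT.Orders.m23 h1]; norm_num
    · rw [NotCT.Orders.m24 h1]; norm_num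
  have hc := NotCT.Orders.co3 h
  obtain ⟨e⟩ := h
  have hout : Nat.card (Out T) = 1 := by rw [H55.OutGen.card_out_congr e, S2071.result]
  exact false_of_conj (H := T) (Cop.Conway.inc3.comp e.toMonoidHom) (Cop.Conway.inc3_injective.comp e.injective) Rows.leechV_ne
    (fun x => (e x).2.2) (by rw [hc]; norm_num) h25 fun x hx => conj_of_not_der hout hnd (by rw [hx]; norm_num)

/-- **Co2** -/
theorem der_co2 (tab : OrderTable.{u}) (known : Known.{u}) (h : Spor.IsoCo2 T) {R : Subgroup T} (hR : R ≠ ⊤) :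
    H396.Der T R := by
  have hfin : Finite T := Nat.finite_of_card_ne_zero (by rw [NotCT.Orders.co2 h]; norm_num)
  by_contra hnd
  have full : ∀ p : ℕ, p.Prime → p ∣ 42305421312000 → p ∣ Nat.card R := by
    intro p hp hd
    by_contra hn
    exact hnd (H396.der_of_prime hp (by rw [NotCT.Orders.co2 h]; exact hd) hn)
  have h25 : ¬ 5 ^ 2 ∣ Nat.card R := by
    obtain ⟨O, hO, N, hi, hN, h1⟩ := top_co2 (ful_co2 tab known h hR full)
    have h2 : Nat.card R = Nat.card N * N.index * Nat.card O := by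
      rw [Subgroup.card_mul_index, card_quot_mul]
    rw [hi, mul_one] at h2
    rcases h1 with ⟨h1, h3 | h3⟩ | ⟨h1, h3⟩
    · rw [h2, h3, NotCT.Orders.m23 h1]; norm_num
    · rw [h2, h3, NotCT.Orders.m23 h1]; norm_num
    · rw [h2, h3, NotCT.Orders.m24 h1]; norm_num
  have hc := NotCT.Orders.co2 h
  obtain ⟨e⟩ := h
  have hout : Nat.card (Out T) = 1 := by rw [H55.OutGen.card_out_congr e, S2070.result]
  exact false_of_conj (H := T) (Cop.Conway.inc2.comp e.toMonoidHom) (Cop.Conway.inc2_injective.comp e.injective) Rows.leechU_ne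
    (fun x => (e x).2.2) (by rw [hc]; norm_num) h25 fun x hx => conj_of_not_der hout hnd (by rw [hx]; norm_num)

theorem clT_co3 (tab : OrderTable.{u}) (known : Known.{u}) (h : Spor.IsoCo3 T) : H278.El.ClT T :=
  fun _ hR => Or.inl (H278.El.Der.derT (der_co3 tab known h hR))

theorem clT_co2 (tab : OrderTable.{u}) (known : Known.{u}) (h : Spor.IsoCo2 T) : H278.El.ClT T :=
  fun _ hR => Or.inl (H278.El.Der.derT (der_co2 tab known h hR))

end rows

end Cfsg.Agent.H604.Sax
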