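import Cfsg.Agent.H845.CopTits

/-!
# The Tits group: the centralizer of the element `x` of order 13 (helper604)
-/

namespace Cfsg.Agent.H604.Sax

open Subgroup Cfsg.Agent

theorem iso_refl : Cfsg.Lie.IsoTits Cfsg.Lie.TitsGroup := ⟨MulEquiv.refl _⟩

theorem card_x (D : H87.TitsAbs.Dat Cfsg.Lie.TitsGroup) :
    Nat.card (centralizer ({D.x} : Set Cfsg.Lie.TitsGroup)) = 13 := by
  have : Finite Cfsg.Lie.TitsGroup := by
    apply Nat.finite_of_card_ne_zero
    rw [Cfsg.Agent.H87.TitsData.card_tits]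
    norm_num
  exact H845.CopTits.card_cent_x iso_refl D

theorem order_x {K : Type*} [Group K] (D : H87.TitsAbs.Dat K) : orderOf D.x = 13 := by
  have : Fact (Nat.Prime 13) := ⟨by norm_num⟩
  exact orderOf_eq_prime D.x13 D.x1

theorem exists_x : ∃ x : Cfsg.Lie.TitsGroup, orderOf x = 13 ∧
    Nat.card (centralizer ({x} : Set Cfsg.Lie.TitsGroup)) = 13 := by
  obtain ⟨D⟩ := Cfsg.Agent.H87.TitsData.dat_tits
  exact ⟨D.x, order_x D, Cfsg.Agent.H604.Sax.card_x D⟩

end Cfsg.Agent.H604.Sax
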