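import Cfsg.Agent.H257.El.Eng
import Cfsg.Agent.H604.FD.Inner

/-!
# Subgroups whose order is divisible by all the primes (helper604)

`T` a group of order `n`, `l` the factorisation of `n`, `r` a prime with `r ∥ n`, the elements of order `r` of `T` are
self-centralizing.  `R` a proper subgroup of `T` whose order is divisible by all the primes dividing `n`.

* `card_normalizer` : `|N_X(P)| = r ((|X| / r) mod r)`
* `Ful.exists_main` : the top of `R`
* `push` : elements of order prime to `|O|` and to `|R/O : N|`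
-/

set_option autoImplicit false

namespace Cfsg.Agent.H604.Sax

open Subgroup
open Cfsg.Agent.OrdDiv
open Cfsg.Agent.H257.El

universe u

/-- the elements of order `r` are self-centralizing -/
def SelfC (T : Type*) [Group T] (r : ℕ) : Prop :=
  ∀ x : T, orderOf x = r → Nat.card (centralizer ({x} : Set T)) = r

theorem SelfC.sub {T : Type*} [Group T] [Finite T] {r : ℕ} (h : SelfC T r) (X : Subgroup T) : SelfC X r := by
  intro x hx
  have h1 := h x (by rw [Subgroup.orderOf_coe]; exact hx)
  apply le_antisymm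
  · rw [← h1]
    refine Nat.card_le_card_of_injective
      (fun g : centralizer ({x} : Set X) => (⟨(g.1 : T), ?_⟩ : centralizer ({(x : T)} : Set T))) ?_
    · have h2 := g.2
      rw [mem_centralizer_singleton_iff] at h2 ⊢
      exact congrArg Subtype.val h2
    · intro a b hab
      apply Subtype.ext
      apply Subtype.ext
      exact congrArg (fun z : centralizer ({(x : T)} : Set T) => (z : T)) hab
  · have h3 : zpowers x ≤ centralizer ({x} : Set X) := by
      rw [zpowers_le, mem_centralizer_singleton_iff]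
    have h4 := Nat.le_of_dvd Nat.card_pos (Subgroup.card_dvd_of_le h3)
    rwa [Nat.card_zpowers, hx] at h4

/-- the order of the normalizer of a subgroup of order `r` -/
theorem card_normalizer {T : Type*} [Group T] [Finite T] {r : ℕ} (hr : r.Prime) (h : SelfC T r)
    (h2 : ¬ r ^ 2 ∣ Nat.card T) {P : Subgroup T} (hP : Nat.card P = r) :
    Nat.card (normalizer (P : Set T)) = r * ((Nat.card T / r) % r) := by
  have : Fact r.Prime := ⟨hr⟩
  have hPp : IsPGroup r P := IsPGroup.of_card (n := 1) (by rw [hP, pow_one])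
  have hrd : r ∣ Nat.card T := by
    rw [← hP]; exact card_subgroup_dvd_card P
  have hidx : ¬ r ∣ P.index := by
    intro hd
    apply h2
    rw [← Subgroup.card_mul_index P, hP, pow_two]
    exact Nat.mul_dvd_mul_left _ hd
  have hfac : (Nat.card T).factorization r = 1 := by
    apply le_antisymm
    · by_contra hc
      exact h2 ((hr.pow_dvd_iff_le_factorization Nat.card_pos.ne').2 (by omega))
    · exact (hr.pow_dvd_iff_le_factorization (k := 1) Nat.card_pos.ne').1 (by rwa [pow_one])
  let S : Sylow r T := Sylow.ofCard P (by rw [hfac, pow_one, hP])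
  have hS : (S : Subgroup T) = P := rfl
  have hSc : Nat.card S = r := hP
  obtain ⟨⟨x, hxP⟩, hx⟩ := exists_prime_orderOf_dvd_card' (G := P) r (by rw [hP])
  rw [Subgroup.orderOf_mk] at hx
  have hPx : P = zpowers x := by
    symm
    apply Subgroup.eq_of_le_of_card_ge
    · rw [zpowers_le]; exact hxP
    · rw [hP, Nat.card_zpowers, hx]
  have hC : centralizer (P : Set T) = centralizer ({x} : Set T) := by
    rw [hPx]
    ext g
    rw [mem_centralizer_iff, mem_centralizer_singleton_iff]
    constructor
    · intro hg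
      exact (hg x (mem_zpowers x)).symm
    · rintro hg y hy
      obtain ⟨j, rfl⟩ := mem_zpowers_iff.1 hy
      exact ((show Commute g x from hg).zpow_right j).eq.symm
  have hCc : Nat.card (centralizer ((S : Subgroup T) : Set T)) = r := by
    rw [hS, hC]
    exact h x hx
  have h3 := Cfsg.Agent.H604.FD.Inner.relIndex_eq S hSc hCc
  have hle : centralizer ((S : Subgroup T) : Set T) ≤ normalizer ((S : Subgroup T) : Set T) :=
    centralizer_le_normalizer _
  have h4 := index_mul_card ((centralizer ((S : Subgroup T) : Set T)).subgroupOf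
    (normalizer ((S : Subgroup T) : Set T)))
  rw [Nat.card_congr (subgroupOfEquivOfLe hle).toEquiv, hCc] at h4
  rw [← hS, ← h4, mul_comm, ← h3]
  rfl

/-- **Frattini.**  The index of a normal subgroup whose order is divisible by `r`. -/
theorem index_mul {T : Type*} [Group T] [Finite T] {r : ℕ} (hr : r.Prime) (h : SelfC T r)
    (h2 : ¬ r ^ 2 ∣ Nat.card T) (M : Subgroup T) [hM : M.Normal] (hd : r ∣ Nat.card M) :
    ((Nat.card M / r) % r) * M.index = (Nat.card T / r) % r := by
  have : Fact r.Prime := ⟨hr⟩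
  have h2M : ¬ r ^ 2 ∣ Nat.card M := fun h3 => h2 (h3.trans (card_subgroup_dvd_card M))
  obtain ⟨P⟩ : Nonempty (Sylow r M) := inferInstance
  have hPc : Nat.card P = r := by
    have h3 := P.card_eq_multiplicity
    have hfac : (Nat.card M).factorization r = 1 := by
      apply le_antisymm
      · by_contra hc
        exact h2M ((hr.pow_dvd_iff_le_factorization Nat.card_pos.ne').2 (by omega))
      · exact (hr.pow_dvd_iff_le_factorization (k := 1) Nat.card_pos.ne').1 (by rwa [pow_one])
    rwa [hfac, pow_one] at h3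
  have hfr := Sylow.normalizer_sup_eq_top P
  set P' : Subgroup T := (P : Subgroup M).map M.subtype with hP'
  have hP'c : Nat.card P' = r := by
    rw [hP', Subgroup.card_map_of_injective M.subtype_injective]
    exact hPc
  have h3 := card_normalizer hr h h2 hP'c
  have h4 := card_normalizer hr (h.sub M) h2M hPc
  have h5 : M.relIndex (normalizer (P' : Set T)) = M.index := by
    have h6 : M.relIndex (normalizer (P' : Set T) ⊔ M) = M.relIndex (normalizer (P' : Set T)) :=
      Subgroup.relIndex_sup_right _ _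
    rw [hfr, Subgroup.relIndex_top_right] at h6
    exact h6.symm
  have h6 : Nat.card (normalizer (((P : Subgroup M) : Subgroup M) : Set M)) =
      Nat.card (M.subgroupOf (normalizer (P' : Set T))) := by
    refine Nat.card_congr
      { toFun := fun g => ⟨⟨(g.1 : T), ?_⟩, ?_⟩
        invFun := fun g => ⟨⟨(g.1 : T), ?_⟩, ?_⟩
        left_inv := fun g => rfl
        right_inv := fun g => rfl }
    · have hg := mem_normalizer_iff.1 g.2
      rw [mem_normalizer_iff]
      intro y
      constructor
      · rintro ⟨z, hz, rfl⟩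
        exact ⟨_, (hg z).1 hz, rfl⟩
      · rintro ⟨z, hz, hzy⟩
        have hz' : z = g.1 * ⟨y, by
            have h7 : y = (g.1 : T)⁻¹ * (z : T) * (g.1 : T) := by
              have h8 : (z : T) = (g.1 : T) * y * (g.1 : T)⁻¹ := hzy
              rw [h8]; group
            rw [h7]
            exact M.mul_mem (M.mul_mem (M.inv_mem g.1.2) z.2) g.1.2⟩ * g.1⁻¹ := Subtype.ext hzy
        rw [hz'] at hz
        exact ⟨_, (hg _).2 hz, rfl⟩
    · rw [mem_subgroupOf]
      exact g.1.2
    · exact mem_subgroupOf.1 g.2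
    · have hg := mem_normalizer_iff.1 g.1.2
      rw [mem_normalizer_iff]
      intro y
      have h7 := hg (y : T)
      constructor
      · intro hy
        obtain ⟨z, hz, hzy⟩ := h7.1 ⟨y, hy, rfl⟩
        have h8 : z = ⟨(g.1 : T), mem_subgroupOf.1 g.2⟩ * y * (⟨(g.1 : T), mem_subgroupOf.1 g.2⟩ : M)⁻¹ :=
          Subtype.ext hzy
        rw [← h8]
        exact hz
      · intro hy
        obtain ⟨z, hz, hzy⟩ := h7.2 ⟨_, hy, rfl⟩
        have h8 : z = y := Subtype.ext hzy
        rwa [← h8]
  have h7 : Nat.card (M.subgroupOf (normalizer (P' : Set T))) * M.relIndex (normalizer (P' : Set T)) =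
      Nat.card (normalizer (P' : Set T)) := Subgroup.card_mul_index _
  rw [h5, ← h6, h3] at h7
  have h8 : r * (((Nat.card M / r) % r) * M.index) = r * ((Nat.card T / r) % r) := by
    rw [← h7, ← mul_assoc]
    congr 1
    exact h4.symm
  exact Nat.eq_of_mul_eq_mul_left hr.pos h8

/-- the index of a subgroup of order divisible by `r` -/
theorem dvd_sub {T : Type*} [Group T] [Finite T] {r : ℕ} (hr : r.Prime) (h : SelfC T r)
    (h2 : ¬ r ^ 2 ∣ Nat.card T) (M : Subgroup T) (hd : r ∣ Nat.card M) :
    (Nat.card M / r) % r ∣ (Nat.card T / r) % r := by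
  have : Fact r.Prime := ⟨hr⟩
  have h2M : ¬ r ^ 2 ∣ Nat.card M := fun h3 => h2 (h3.trans (card_subgroup_dvd_card M))
  obtain ⟨x, hx⟩ := exists_prime_orderOf_dvd_card' (G := M) r hd
  have h3 := card_normalizer hr (h.sub M) h2M (P := zpowers x) (by rw [Nat.card_zpowers, hx])
  have h4 := card_normalizer hr h h2 (P := zpowers (x : T)) (by rw [Nat.card_zpowers, Subgroup.orderOf_coe, hx])
  have h5 : (normalizer ((zpowers x : Subgroup M) : Set M)).map M.subtype ≤
      normalizer ((zpowers (x : T) : Subgroup T) : Set T) := by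
    rintro _ ⟨g, hg, rfl⟩
    have h6 : (zpowers x).map M.subtype = zpowers (x : T) := by
      rw [MonoidHom.map_zpowers]; rfl
    rw [← h6]
    have hg' := mem_normalizer_iff.1 hg
    rw [mem_normalizer_iff]
    intro y
    constructor
    · rintro ⟨z, hz, rfl⟩
      exact ⟨_, (hg' z).1 hz, rfl⟩
    · rintro ⟨z, hz, hzy⟩
      have hz' : z = g * ⟨y, by
          have h7 : y = (g : T)⁻¹ * (z : T) * (g : T) := by
            have h8 : (z : T) = (g : T) * y * (g : T)⁻¹ := hzy
            rw [h8]; group
          rw [h7]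
          exact M.mul_mem (M.mul_mem (M.inv_mem g.2) z.2) g.2⟩ * g⁻¹ := Subtype.ext hzy
      rw [hz'] at hz
      exact ⟨_, (hg' _).2 hz, rfl⟩
  have h6 := Subgroup.card_dvd_of_le h5
  rw [Subgroup.card_map_of_injective M.subtype_injective, h3, h4] at h6
  exact Nat.dvd_of_mul_dvd_mul_left hr.pos h6

section top

variable {R : Type*} [Group R] [Finite R] {r : ℕ} {O : Subgroup R} [O.Normal] {N : Subgroup (R ⧸ O)}

/-- the order of a Sylow subgroup of the core is `1` modulo `r` -/
theorem core_mod (h : Top R r O N) (hsc : SelfC R r) {s : ℕ} (hs : s.Prime) (hrs : r ≠ s) :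
    s ^ (Nat.card O).factorization s % r = 1 := by
  have hr' : Fact r.Prime := ⟨h.prime⟩
  have hs' : Fact s.Prime := ⟨hs⟩
  obtain ⟨S⟩ : Nonempty (Sylow s O) := inferInstance
  obtain ⟨y, hy, hyS⟩ := exists_normalizer h.dvdR O h.core S
  set P : Subgroup R := (S : Subgroup O).map O.subtype with hP
  have hPp : IsPGroup s P := S.isPGroup'.map _
  have hPc : Nat.card P = s ^ (Nat.card O).factorization s := by
    rw [hP, Subgroup.card_map_of_injective O.subtype_injective]
    exact S.card_eq_multiplicity
  by_contra hm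
  rw [← hPc] at hm
  obtain ⟨w, -, hw, hyw⟩ := exists_comm_of_normalizer h.prime hs hy hPp hyS hm
  have h1 : w ∈ centralizer ({y} : Set R) := mem_centralizer_singleton_iff.2 hyw.symm
  have h2 := Subgroup.orderOf_dvd_natCard _ h1
  rw [hw, hsc y hy] at h2
  exact hrs ((Nat.prime_dvd_prime_iff_eq hs h.prime).1 h2).symm

theorem card_comap_mk (N : Subgroup (R ⧸ O)) :
    Nat.card (N.comap (QuotientGroup.mk' O)) = Nat.card N * Nat.card O := by
  have h1 := Subgroup.card_mul_index (N.comap (QuotientGroup.mk' O))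
  have h3 : (N.comap (QuotientGroup.mk' O)).index = N.index :=
    Subgroup.index_comap_of_surjective N (QuotientGroup.mk'_surjective O)
  have h4 := Subgroup.card_mul_index N
  have h5 := card_quot_mul O
  rw [h3] at h1
  have h6 : 0 < N.index := Nat.pos_of_ne_zero N.index_ne_zero_of_finite
  apply Nat.eq_of_mul_eq_mul_right h6
  rw [h1, ← h5, ← h4]
  ring

theorem index_top (h : Top R r O N) (hsc : SelfC R r) :
    ((Nat.card N * Nat.card O / r) % r) * N.index = (Nat.card R / r) % r := by
  have := h.normal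
  have h1 := index_mul h.prime hsc h.sq (N.comap (QuotientGroup.mk' O)) (by
    rw [card_comap_mk]; exact h.dvd.mul_right _)
  rwa [card_comap_mk, Subgroup.index_comap_of_surjective N (QuotientGroup.mk'_surjective O)] at h1

omit [Finite R] in
/-- elements of order prime to the index of `N` and to the order of `O` -/
theorem push [N.Normal] {m : ℕ} (hO : m.Coprime (Nat.card O)) (hN : m.Coprime N.index) {x : R}
    (hx : orderOf x = m) : ∃ y : N, orderOf y = m := by
  have h1 : QuotientGroup.mk' O x ∈ N := by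
    have h2 : QuotientGroup.mk' N (QuotientGroup.mk' O x) = 1 := by
      rw [← orderOf_eq_one_iff]
      apply Nat.eq_one_of_dvd_coprimes hN
      · rw [← hx]
        exact (orderOf_map_dvd _ _).trans (orderOf_map_dvd _ _)
      · exact orderOf_dvd_natCard _
    exact (QuotientGroup.eq_one_iff _).1 h2
  refine ⟨⟨_, h1⟩, ?_⟩
  rw [Subgroup.orderOf_mk]
  apply Nat.dvd_antisymm
  · rw [← hx]
    exact orderOf_map_dvd _ _
  · have h3 : x ^ orderOf (QuotientGroup.mk' O x) ∈ O := by
      rw [← QuotientGroup.eq_one_iff]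
      have h4 := pow_orderOf_eq_one (QuotientGroup.mk' O x)
      rwa [← map_pow] at h4
    have h5 : x ^ orderOf (QuotientGroup.mk' O x) = 1 := by
      rw [← orderOf_eq_one_iff]
      apply Nat.eq_one_of_dvd_coprimes hO
      · rw [← hx]
        exact orderOf_pow_dvd _
      · exact Subgroup.orderOf_dvd_natCard _ h3
    rw [← hx]
    exact orderOf_dvd_of_pow_eq_one h5

end top

variable {T : Type u} [Group T] [Finite T]

/-- The situation. -/
structure Ful (T : Type u) [Group T] (n : ℕ) (l : List (ℕ × ℕ)) (r : ℕ) (R : Subgroup T) : Prop where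
  tab : OrderTable.{u}
  known : Known.{u}
  card : Nat.card T = n
  valid : valid l n = true
  prime : r.Prime
  dvd : r ∣ n
  sq : ¬ r ^ 2 ∣ n
  self : SelfC T r
  ne : R ≠ ⊤
  full : ∀ p : ℕ, p.Prime → p ∣ n → p ∣ Nat.card R

namespace Ful

variable {n : ℕ} {l : List (ℕ × ℕ)} {r : ℕ} {R : Subgroup T}

omit [Finite T] in
theorem dvd_n (S : Ful T n l r R) : Nat.card R ∣ n := by
  rw [← S.card]
  exact Subgroup.card_subgroup_dvd_card R

omit [Finite T] in
theorem sqR (S : Ful T n l r R) : ¬ r ^ 2 ∣ Nat.card R := fun h => S.sq (h.trans S.dvd_n)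

theorem card_lt (S : Ful T n l r R) : Nat.card R < n := by
  rw [← S.card]
  refine lt_of_le_of_ne (Nat.le_of_dvd Nat.card_pos (Subgroup.card_subgroup_dvd_card R)) fun h => S.ne ?_
  exact Subgroup.eq_top_of_card_eq R h

theorem noR (S : Ful T n l r R) {s : ℕ} (hs : s.Prime) (hrs : r ≠ s) (z : R) : orderOf z ≠ r * s :=
  noOrd_of_cent S.prime (S.self.sub R) hs hrs z

variable {O : Subgroup R} [O.Normal] {N : Subgroup (R ⧸ O)}

/-- **The top of `R`.** -/
theorem exists_main (S : Ful T n l r R) {s : ℕ} (hs : s.Prime) (hok : okPair n l r s = true) :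
    ∃ (O : Subgroup R) (_ : O.Normal) (N : Subgroup (R ⧸ O)) (g : Grp), Top R r O N ∧ g ∈ surv n l r [s] ∧
      Real g N ∧ Nat.card N = ordN g ∧ Nat.card R = ordN g * Nat.card O * N.index ∧ Nat.card O ∣ n / ordN g ∧
      (∀ q : ℕ, q.Prime → r ≠ q → q ^ (Nat.card O).factorization q % r = 1) ∧
      ((ordN g * Nat.card O / r) % r) * N.index ∣ (n / r) % r := by
  have hdR : r ∣ Nat.card R := S.full r S.prime S.dvd
  obtain ⟨O, hO, N, h⟩ := Cfsg.Agent.H257.El.exists_top S.prime hdR S.sqR
  have hok' := hok
  unfold okPair at hok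
  rw [Bool.and_eq_true, Bool.and_eq_true, Bool.and_eq_true] at hok
  obtain ⟨⟨⟨h1, h2⟩, h3⟩, h4⟩ := hok
  have h1' : r ≠ s := by simpa using h1
  have h2' : ¬ s ∣ r - 1 := by
    intro hd
    rw [Nat.mod_eq_zero_of_dvd hd] at h2
    exact absurd h2 (by decide)
  have h3' : s ∣ n := Nat.dvd_of_mod_eq_zero (by simpa using h3)
  have hsN : s ∣ Nat.card N := h.dvd_simple hs h1' (S.noR hs h1')
    (fun _ hb hd => okPow_spec S.valid h4 hs hb (hd.trans S.dvd_n)) h2' (S.full s hs h3')
  have hsim := h.simple
  have hNR : Nat.card N ∣ Nat.card R := by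
    refine (Subgroup.card_subgroup_dvd_card N).trans ?_
    rw [← card_quot_mul O]
    exact dvd_mul_right _ _
  have hNn : Nat.card N ∣ n := hNR.trans S.dvd_n
  have hna : ¬ ∀ a b : N, a * b = b * a := Sit.not_comm_of_dvd h hs h1' hsN
  obtain ⟨g, hg, hr, hc⟩ := exists_good S.tab (S.known N) hna S.valid hNn
  have hcR : Nat.card R = ordN g * Nat.card O * N.index := by
    rw [← hc, ← card_quot_mul O, ← Subgroup.card_mul_index N]
    ring
  have hpos : 0 < ordN g := by rw [← hc]; exact Nat.card_pos
  refine ⟨O, hO, N, g, h, List.mem_filter.2 ⟨hg, ?_⟩, hr, hc, hcR, ?_, fun q hq hrq => core_mod h (S.self.sub R) hq hrq,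
    ?_⟩
  · unfold okG
    rw [Bool.and_eq_true, Bool.and_eq_true, List.all_eq_true]
    refine ⟨⟨?_, ?_⟩, fun t ht => ?_⟩
    · rw [← hc, Nat.mod_eq_zero_of_dvd h.dvd]; rfl
    · rw [← hc]
      have h1 : Nat.card N ≤ Nat.card R := Nat.le_of_dvd Nat.card_pos hNR
      have h2 := S.card_lt
      have h3 : Nat.card N ≠ n := by omega
      simpa using h3
    · rw [List.mem_singleton] at ht
      rw [ht, ← hc, Nat.mod_eq_zero_of_dvd hsN]; rfl
  · have h5 : ordN g * Nat.card O ∣ n := by
      refine (?_ : ordN g * Nat.card O ∣ Nat.card R).trans S.dvd_n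
      rw [hcR]
      exact dvd_mul_right _ _
    exact Nat.dvd_div_of_mul_dvd h5
  · rw [← hc, index_top h (S.self.sub R), ← S.card]
    exact dvd_sub S.prime S.self (by rw [S.card]; exact S.sq) R hdR

end Ful

/-! ### Arithmetic -/

/-- no prime power divisor of `m` is `1` modulo `r` -/
def coreChk (l : List (ℕ × ℕ)) (r : ℕ) : Bool :=
  l.all fun x => (r != x.1) && (List.range (x.2 + 1)).all fun i => (i == 0) || (x.1 ^ i % r != 1)

/-- a divisor of `m` whose prime parts are `1` modulo `r` is `1` if no prime power divisor of `m` is `1` modulo `r` -/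
theorem eq_one_of_mod {o m r : ℕ} {l : List (ℕ × ℕ)} (hv : valid l m = true) (hm0 : m ≠ 0) (hod : o ∣ m)
    (h : ∀ q : ℕ, q.Prime → r ≠ q → q ^ o.factorization q % r = 1) (hchk : coreChk l r = true) : o = 1 := by
  have ho0 : o ≠ 0 := fun h0 => hm0 (by rw [h0] at hod; exact zero_dvd_iff.1 hod)
  by_contra hne
  obtain ⟨q, hq, hqo⟩ := Nat.exists_prime_and_dvd hne
  have h2 : 1 ≤ o.factorization q := (hq.pow_dvd_iff_le_factorization (k := 1) ho0).1 (by rwa [pow_one])
  obtain ⟨k, hk, hle⟩ := exists_pair hv hq h2 ((Nat.ordProj_dvd o q).trans hod)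
  unfold coreChk at hchk
  rw [List.all_eq_true] at hchk
  have h6 := hchk _ hk
  rw [Bool.and_eq_true, List.all_eq_true] at h6
  have h7 := h6.2 (o.factorization q) (List.mem_range.2 (by simp only; omega))
  have h1 := h q hq (by simpa using h6.1)
  rw [Bool.or_eq_true] at h7
  rcases h7 with h7 | h7
  · have : o.factorization q = 0 := by simpa using h7
    omega
  · have h8 : q ^ o.factorization q % r ≠ 1 := by simpa using h7
    exact h8 h1

end Cfsg.Agent.H604.Sax
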