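import Cfsg.Agent.H257.El.Row.B
import Cfsg.Agent.H257.El.Row.Co1
import Cfsg.Agent.H257.El.Row.Fi23
import Cfsg.Agent.H257.El.Row.Fi24
import Cfsg.Agent.H257.El.Row.He
import Cfsg.Agent.H257.El.Row.HN
import Cfsg.Agent.S1701
import Cfsg.Agent.H257.El.Row.J1
import Cfsg.Agent.H257.El.Row.J3
import Cfsg.Agent.H257.El.Row.J4
import Cfsg.Agent.H257.El.Row.Ly
import Cfsg.Agent.H257.El.Row.Ru
import Cfsg.Agent.H183.Der.Eng
import Cfsg.Agent.H904.El.Fi22
import Cfsg.Agent.H180.ElSuz
import Cfsg.Agent.H395.PFJ2Row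
import Cfsg.Agent.H385.SpHNFour
import Cfsg.Agent.H514.OrdJ1
import Cfsg.Agent.H514.OrdSpor
import Cfsg.Agent.H393.Iso.Monster
import Cfsg.Agent.H94.CopHN
import Cfsg.Agent.H981.SCTh
import Cfsg.Agent.H981.SCON
import Cfsg.Agent.H537.CopSC
import Cfsg.Agent.H604.Sax.RowsCo
import Cfsg.Agent.H604.Sax.Tits
import Cfsg.Agent.H604.Sax.Mathieu

/-!
# SAX-SPOR: every maximal subgroup of a sporadic group misses an element order (helper604, task 3375)

* `clM_on`, `clM_th`, `clM_fi22`, `clM_suz`, `clM_j2` : every proper subgroup misses a prime;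
* `og_hn` : a proper subgroup of `HN` of order divisible by 5, 7, 11, 19 has no element of order 4 (`J1` at the top);
* `og_m` : the Monster (59, 71 and an element of order 4);
* `ogMax_spor` : all 26 sporadic groups; `ogMax_named` : the same for the names in `OrdDiv.spor` (with the Tits group).
-/

set_option autoImplicit false

namespace Cfsg.Agent.H604.Sax

open Subgroup
open Cfsg Cfsg.Agent.OrdDiv
open Cfsg.Agent.H257.El
open Cfsg.Agent.H938.Sax

universe u

section

variable {T : Type u} [Group T]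

theorem pgap_of_clM (h : ClM T) {R : Subgroup T} (hR : R ≠ ⊤) : PGap T R := h R hR

theorem ogMax_of_clM [Finite T] (h : ClM T) : OGMax T := fun _ hM => (pgap_of_clM h hM.1).ordGap

/-- one pair of non-adjacent primes -/
theorem clM_of_pair' (tab : OrderTable.{u}) (known : Known.{u}) [Finite T] {n r s : ℕ} {l : List (ℕ × ℕ)}
    (hn : Nat.card T = n) (hr : r.Prime) (hs : s.Prime) (hrn : r ∣ n) (hsn : s ∣ n)
    (hno : ∀ z : T, orderOf z ≠ r * s) (hchk : H257.El.chkPair n l r s = true) : ClM T := by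
  intro R hR
  by_contra hcon
  push Not at hcon
  exact H183.Der.false_of_pair tab known hn hr hs hno hchk hR (hcon r hr (by rw [hn]; exact hrn))
    (hcon s hs (by rw [hn]; exact hsn))

theorem noOrd_of_sc [Finite T] {r : ℕ} (hr : r.Prime) (h : H537.Cop.SC r T) {s : ℕ} (hs : s.Prime) (hrs : r ≠ s)
    (z : T) : orderOf z ≠ r * s :=
  noOrd_of_cent hr h hs hrs z

/-- **ON** -/
theorem clM_on (tab : OrderTable.{u}) (known : Known.{u}) (h : Spor.IsoON T) : ClM T := by
  have hc := NotCT.Orders.on h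
  have : Finite T := Nat.finite_of_card_ne_zero (by rw [hc]; norm_num)
  obtain ⟨e⟩ := h
  have hf : Finite Spor.ON := Finite.of_equiv T e.toEquiv
  exact clM_of_pair' tab known (r := 31) (s := 19)
    (l := [(2, 9), (3, 4), (5, 1), (7, 3), (11, 1), (19, 1), (31, 1)]) hc (by norm_num) (by norm_num) (by norm_num)
    (by norm_num) (noOrd_congr e (noOrd_of_sc (by norm_num) H981.SCON.sc_on (by norm_num) (by norm_num)))
    (by decide +kernel)

/-- **Th** -/
theorem clM_th (tab : OrderTable.{u}) (known : Known.{u}) (h : Spor.IsoTh T) : ClM T := by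
  have hc := NotCT.Orders.th h
  have : Finite T := Nat.finite_of_card_ne_zero (by rw [hc]; norm_num)
  obtain ⟨e⟩ := h
  have hf : Finite Spor.Th := Finite.of_equiv T e.toEquiv
  exact clM_of_pair' tab known (r := 19) (s := 31)
    (l := [(2, 15), (3, 10), (5, 3), (7, 2), (13, 1), (19, 1), (31, 1)]) hc (by norm_num) (by norm_num) (by norm_num)
    (by norm_num) (noOrd_congr e (noOrd_of_sc (by norm_num) H981.SCTh.sc_th (by norm_num) (by norm_num)))
    (by decide +kernel)

/-- **Suz** -/
theorem clM_suz (tab : OrderTable.{u}) (known : Known.{u}) (h : Spor.IsoSuz T) : ClM T := by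
  have hc := NotCT.Orders.suz h
  intro R hR
  rcases H180.ElS.miss_suz tab known h hR with h1 | h1
  · exact ⟨13, by norm_num, by rw [hc]; norm_num, h1⟩
  · exact ⟨11, by norm_num, by rw [hc]; norm_num, h1⟩

/-- **J2** -/
theorem clM_j2 (tab : OrderTable.{u}) (known : Known.{u}) (h : Spor.IsoJ2 T) : ClM T := fun _ hR =>
  H395.PF.miss_j2 tab known h hR

/-- **Fi22** -/
theorem clM_fi22 (tab : OrderTable.{u}) (known : Known.{u}) (h : Spor.IsoFi22 T) : ClM T := by
  have hc := NotCT.Orders.fi22 h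
  have hfin : Finite T := Nat.finite_of_card_ne_zero (by rw [hc]; norm_num)
  obtain ⟨e⟩ := h
  intro R hR
  by_contra hcon
  push Not at hcon
  rw [hc] at hcon
  have hno : ∀ z : T, orderOf z ≠ 13 * 11 :=
    noOrd_of_cent (by norm_num) (fun x hx => H713.Spor.Fi22.cent_13 e hx) (by norm_num) (by norm_num)
  obtain ⟨O, hO, N, ht, -, g, hg, hgR, -⟩ := H180.ElS.exists_surv_of_dvd tab known (r := 13) (s := 11)
    (l := [(2, 17), (3, 9), (5, 2), (7, 1), (11, 1), (13, 1)]) hc (by decide +kernel) (by norm_num) (by norm_num)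
    hno (by decide +kernel) (by norm_num) hR (hcon 13 (by norm_num) (by norm_num)) (hcon 11 (by norm_num) (by norm_num))
  have hl : surv 64561751654400 [(2, 17), (3, 9), (5, 2), (7, 1), (11, 1), (13, 1)] 13 [11] = [.alt 13, .suz] := by
    decide +kernel
  rw [hl] at hg
  have h11' : Fact (Nat.Prime 11) := ⟨by norm_num⟩
  have hreal : H722.RealP.HasReal 11 N := by
    simp only [List.mem_cons, List.not_mem_nil, or_false] at hg
    rcases hg with rfl | rfl
    · obtain ⟨f⟩ := hgR
      exact H904.El.Fi22.alt_thirteen.map_equiv f.symm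
    · obtain ⟨f⟩ := hgR
      exact H904.El.Fi22.suz_eleven.map_equiv f.symm
  have hT' : H722.RealP.HasReal 11 T := (hreal.of_subgroup.of_quotient (by norm_num)).of_subgroup
  obtain ⟨x, hx, hxc⟩ := hT'.isConj
  exact H713.Spor.Fi22.not_real e hx hxc

/-- the Monster -/
theorem og_m (tab : OrderTable.{u}) (known : Known.{u}) (h : Spor.IsoM T) : OGMax T := by
  have hc := NotCT.Orders.m h
  have hfin : Finite T := Nat.finite_of_card_ne_zero (by rw [hc]; norm_num)
  have h59 : ∀ z : T, orderOf z ≠ 59 * 2 :=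
    noOrd_of_noComm (by norm_num) Nat.prime_two (H393.Iso.na_m h (p := 59) (by simp))
  have h71 : ∀ z : T, orderOf z ≠ 71 * 2 :=
    noOrd_of_noComm (by norm_num) Nat.prime_two (H393.Iso.na_m h (p := 71) (by simp))
  obtain ⟨e⟩ := h
  obtain ⟨⟨g, hg⟩, -⟩ := H514.OC.Spor.m_facts
  intro R hR
  by_contra hn
  obtain ⟨m, hm, ho⟩ := exists_order_of_not_ordGap hn (e.symm (g ^ 3))
  rw [MulEquiv.orderOf_eq, orderOf_pow_of_dvd (by norm_num) (by rw [hg]; norm_num), hg] at ho
  exact H183.Der.false_of_na tab known (r := 59) (s := 71)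
    (l := [(2, 46), (3, 20), (5, 9), (7, 6), (11, 2), (13, 3), (17, 1), (19, 1), (23, 1), (29, 1), (31, 1), (41, 1),
      (47, 1), (59, 1), (71, 1)]) hc (by norm_num) (by norm_num) h59 h71 (by decide +kernel) (by norm_num) hR.1
    (prime_dvd_of_not_ordGap hn (by norm_num) (by rw [hc]; norm_num))
    (prime_dvd_of_not_ordGap hn (by norm_num) (by rw [hc]; norm_num)) hm (by rw [ho])

theorem surv_hn : surv 273030912000000 [(2, 14), (3, 6), (5, 6), (7, 1), (11, 1), (19, 1)] 19 [11] = [.j1] := by
  decide +kernel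

/-- **a proper subgroup of `HN` of order divisible by 11 and 19 has no element of order 4** -/
theorem no_four_hn (tab : OrderTable.{u}) (known : Known.{u}) (h : Spor.IsoHN T) {R : Subgroup T} (hR : R ≠ ⊤)
    (h1 : 19 ∣ Nat.card R) (h2 : 11 ∣ Nat.card R) (x : R) : orderOf x ≠ 4 := by
  intro hx
  have hc := NotCT.Orders.hn h
  have hfin : Finite T := Nat.finite_of_card_ne_zero (by rw [hc]; norm_num)
  obtain ⟨e⟩ := h
  have hfm : Finite Spor.HN := Finite.of_equiv T e.toEquiv
  have hno : ∀ {s : ℕ}, s.Prime → 19 ≠ s → ∀ z : T, orderOf z ≠ 19 * s := fun hs hrs =>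
    noOrd_congr e (noOrd_of_sc (by norm_num) H94.CopHN.sc_nineteen hs hrs)
  obtain ⟨O, hO, N, ht, -, g, hg, hgR, -⟩ := H180.ElS.exists_surv_of_dvd tab known (r := 19) (s := 11)
    (l := [(2, 14), (3, 6), (5, 6), (7, 1), (11, 1), (19, 1)]) hc (by decide +kernel) (by norm_num) (by norm_num)
    (hno (by norm_num) (by norm_num)) (by decide +kernel) (by norm_num) hR h1 h2
  rw [surv_hn, List.mem_singleton] at hg
  subst hg
  have hJ : Spor.IsoJ1 N := hgR
  have hn := ht.normal
  have hna : ¬ ∀ a b : N, a * b = b * a := by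
    intro hcomm
    have h3 := ht.card_of_comm hcomm
    rw [NotCT.Orders.j1 hJ] at h3
    norm_num at h3
  have hidx : N.index = 1 := Nat.dvd_one.1 (ht.index_dvd_out hna (H257.El.Row.card_mulAut_j1 hJ))
  have hv : valid [(2, 14), (3, 6), (5, 6), (7, 1), (11, 1), (19, 1)] 273030912000000 = true := by decide +kernel
  have h2O : ¬ 2 ∣ Nat.card O := ht.not_dvd_core Nat.prime_two (by norm_num)
    (fun z => by rw [← Subgroup.orderOf_coe]; exact hno Nat.prime_two (by norm_num) _)
    fun _ hb hd => okPow_spec (l := [(2, 14), (3, 6), (5, 6), (7, 1), (11, 1), (19, 1)]) hv (by decide +kernel)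
      Nat.prime_two hb (hd.trans (by rw [← hc]; exact card_subgroup_dvd_card R))
  obtain ⟨y, hy⟩ := push (O := O) (N := N) (m := 4) (by
    rw [show (4 : ℕ) = 2 ^ 2 by norm_num]
    exact Nat.Coprime.pow_left 2 ((Nat.prime_two.coprime_iff_not_dvd).2 h2O)) (by rw [hidx]; norm_num) hx
  exact H514.OC.J1.no_four' hJ y hy

theorem og_hn (tab : OrderTable.{u}) (known : Known.{u}) (h : Spor.IsoHN T) : OGMax T := by
  have hc := NotCT.Orders.hn h
  have hfin : Finite T := Nat.finite_of_card_ne_zero (by rw [hc]; norm_num)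
  intro R hR
  by_contra hn
  obtain ⟨e⟩ := h
  obtain ⟨x, hx⟩ := H385.Sp.hn_four (X := Spor.HN) Cfsg.Agent.S1701.result.1 ⟨MulEquiv.refl _⟩
  obtain ⟨m, hm, ho⟩ := exists_order_of_not_ordGap hn (e.symm x)
  rw [MulEquiv.orderOf_eq, hx] at ho
  exact no_four_hn tab known ⟨e⟩ hR.1 (prime_dvd_of_not_ordGap hn (by norm_num) (by rw [hc]; norm_num))
    (prime_dvd_of_not_ordGap hn (by norm_num) (by rw [hc]; norm_num)) ⟨m, hm⟩ (by rw [Subgroup.orderOf_mk, ho])

/-- **SAX-SPOR** -/
theorem ogMax_spor (tab : OrderTable.{u}) (known : Known.{u}) (h : IsSporadicGroup T) : OGMax T := by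
  have key : ∀ {n : ℕ}, Nat.card T = n → n ≠ 0 → ClM T → OGMax T := fun hn h0 hcl => by
    have : Finite T := Nat.finite_of_card_ne_zero (by rw [hn]; exact h0)
    exact ogMax_of_clM hcl
  rcases h with h | h | h | h | h | h | h | h | h | h | h | h | h | h | h | h | h | h | h | h | h | h | h | h | h | h
  · exact Mathieu.ogMax_m11 h
  · exact Mathieu.ogMax_m12 h
  · exact Mathieu.ogMax_m22 h
  · exact Mathieu.ogMax_m23 h
  · exact Mathieu.ogMax_m24 h
  · exact key (NotCT.Orders.j1 h) (by norm_num) (H257.El.Row.clM_j1 tab known h)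
  · exact key (NotCT.Orders.j2 h) (by norm_num) (clM_j2 tab known h)
  · exact key (NotCT.Orders.j3 h) (by norm_num) (H257.El.Row.clM_j3 tab known h)
  · exact key (NotCT.Orders.j4 h) (by norm_num) (H257.El.Row.clM_j4 tab known h)
  · exact key (NotCT.Orders.co1 h) (by norm_num) (H257.El.Row.clM_co1 tab known h)
  · exact og_co2 tab known h
  · exact og_co3 tab known h
  · exact og_mcl tab known h
  · exact og_hs tab known h
  · exact key (NotCT.Orders.suz h) (by norm_num) (clM_suz tab known h)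
  · exact key (NotCT.Orders.he h) (by norm_num) (H257.El.Row.clM_he tab known h)
  · exact key (NotCT.Orders.ru h) (by norm_num) (H257.El.Row.clM_ru tab known h)
  · exact key (NotCT.Orders.on h) (by norm_num) (clM_on tab known h)
  · exact key (NotCT.Orders.ly h) (by norm_num) (H257.El.Row.clM_ly tab known h)
  · exact key (NotCT.Orders.fi22 h) (by norm_num) (clM_fi22 tab known h)
  · exact key (NotCT.Orders.fi23 h) (by norm_num) (H257.El.Row.clM_fi23 tab known h)
  · exact key (NotCT.Orders.fi24 h) (by norm_num) (H257.El.Row.clM_fi24 tab known h)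
  · exact og_hn tab known h
  · exact key (NotCT.Orders.th h) (by norm_num) (clM_th tab known h)
  · exact key (NotCT.Orders.b h) (by norm_num) (H257.El.Row.clM_b tab known h)
  · exact og_m tab known h

/-- the same for the names (with the Tits group) -/
theorem ogMax_named (tab : OrderTable.{u}) (known : Known.{u}) {g : Grp} (hg : OrdDiv.Real g T)
    (hs : ∃ x ∈ spor, x.1 = g) : OGMax T := by
  obtain ⟨x, hx, rfl⟩ := hs
  simp only [spor, List.mem_cons, List.not_mem_nil, or_false] at hx
  have h27 : Lie.IsoTits T ∨ IsSporadicGroup T := by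
    unfold IsSporadicGroup
    rcases hx with rfl | rfl | rfl | rfl | rfl | rfl | rfl | rfl | rfl | rfl | rfl | rfl | rfl | rfl | rfl | rfl |
      rfl | rfl | rfl | rfl | rfl | rfl | rfl | rfl | rfl | rfl | rfl
    · exact Or.inl hg
    all_goals
      right
      simp only [OrdDiv.Real] at hg
      tauto
  rcases h27 with h | h
  · exact og_tits tab known h
  · exact ogMax_spor tab known h

end

end Cfsg.Agent.H604.Sax
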