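import Cfsg.Agent.H604.Sax.PrimeTop

/-!
# The subgroups of order divisible by all the primes: numerical part (helper604)
-/

set_option autoImplicit false

namespace Cfsg.Agent.H604.Sax

open Subgroup
open Cfsg.Agent.OrdDiv
open Cfsg.Agent.H257.El

universe u

theorem nonempty_equiv {R : Type*} [Group R] [Finite R] {O : Subgroup R} [O.Normal] {N : Subgroup (R ⧸ O)}
    (hO : Nat.card O = 1) (hN : N.index = 1) : Nonempty (R ≃* N) := by
  have h1 : O = ⊥ := Subgroup.card_eq_one.1 hO
  have h2 : N = ⊤ := Subgroup.index_eq_one.1 hN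
  subst h1
  subst h2
  exact ⟨QuotientGroup.quotientBot.symm.trans Subgroup.topEquiv.symm⟩

theorem idx_one {a k : ℕ} (ha : 0 < a) (h : a * k ∣ a) : k = 1 := by
  have h1 : a * k ∣ a * 1 := by simpa using h
  exact Nat.dvd_one.1 (Nat.dvd_of_mul_dvd_mul_left ha h1)

variable {T : Type u} [Group T] [Finite T] {R : Subgroup T}

theorem surv_hs : surv 44352000 [(2,9),(3,2),(5,3),(7,1),(11,1)] 11 [7] = [.m22] := by decide +kernel
theorem ord_m22 : ordN .m22 = 443520 := by decide +kernel
theorem ord_m23 : ordN .m23 = 10200960 := by decide +kernel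
theorem ord_m24 : ordN .m24 = 244823040 := by decide +kernel
theorem ord_a11 : ordN (.alt 11) = 19958400 := by decide +kernel
theorem ord_l25 : ordN (.psl 2 25) = 7800 := by decide +kernel
theorem ord_u34 : ordN (.psu 3 4) = 62400 := by decide +kernel

/-- **HS** -/
theorem top_hs (S : Ful T 44352000 [(2,9),(3,2),(5,3),(7,1),(11,1)] 11 R) :
    ∃ (M : Type u) (_ : Group M) (_ : Finite M), Nonempty (R ≃* M) ∧ OrdDiv.Real .m22 M := by
  obtain ⟨O, hO, N, g, h, hg, hr, hc, hcR, hOd, hq, he⟩ := S.exists_main (s := 7) (by norm_num) (by decide +kernel)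
  rw [surv_hs, List.mem_singleton] at hg
  subst hg
  rw [ord_m22] at he hOd
  have hO1 : Nat.card O = 1 := eq_one_of_mod (l := [(2,2),(5,2)]) (m := 100) (by decide +kernel) (by norm_num)
    (by simpa using hOd) hq (by decide +kernel)
  rw [hO1] at he
  norm_num at he
  exact ⟨N, inferInstance, inferInstance, nonempty_equiv hO1 (idx_one (by norm_num) he), hr⟩

theorem surv_mcl : surv 898128000 [(2,7),(3,6),(5,3),(7,1),(11,1)] 11 [7] = [.alt 11, .m22] := by decide +kernel

/-- **McL** -/
theorem top_mcl (S : Ful T 898128000 [(2,7),(3,6),(5,3),(7,1),(11,1)] 11 R) :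
    ∃ (M : Type u) (_ : Group M) (_ : Finite M), Nonempty (R ≃* M) ∧
      (OrdDiv.Real .m22 M ∨ OrdDiv.Real (.alt 11) M) := by
  obtain ⟨O, hO, N, g, h, hg, hr, hc, hcR, hOd, hq, he⟩ := S.exists_main (s := 7) (by norm_num) (by decide +kernel)
  rw [surv_mcl] at hg
  rcases List.mem_cons.1 hg with hg | hg
  · subst hg
    rw [ord_a11] at he hOd
    have hO1 : Nat.card O = 1 := eq_one_of_mod (l := [(3,2),(5,1)]) (m := 45) (by decide +kernel) (by norm_num)
      (by simpa using hOd) hq (by decide +kernel)
    rw [hO1] at he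
    norm_num at he
    exact ⟨N, inferInstance, inferInstance, nonempty_equiv hO1 (idx_one (by norm_num) he), Or.inr hr⟩
  · rw [List.mem_singleton] at hg
    subst hg
    rw [ord_m22] at he hOd
    have hO1 : Nat.card O = 1 := eq_one_of_mod (l := [(3,4),(5,2)]) (m := 2025) (by decide +kernel) (by norm_num)
      (by simpa using hOd) hq (by decide +kernel)
    rw [hO1] at he
    norm_num at he
    exact ⟨N, inferInstance, inferInstance, nonempty_equiv hO1 (idx_one (by norm_num) he), Or.inl hr⟩

theorem surv_co3 : surv 495766656000 [(2,10),(3,7),(5,3),(7,1),(11,1),(23,1)] 23 [7] = [.m23, .m24] := by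
  decide +kernel

/-- **Co3** -/
theorem top_co3 (S : Ful T 495766656000 [(2,10),(3,7),(5,3),(7,1),(11,1),(23,1)] 23 R) :
    ∃ (M : Type u) (_ : Group M) (_ : Finite M), Nonempty (R ≃* M) ∧
      (OrdDiv.Real .m23 M ∨ OrdDiv.Real .m24 M) := by
  obtain ⟨O, hO, N, g, h, hg, hr, hc, hcR, hOd, hq, he⟩ := S.exists_main (s := 7) (by norm_num) (by decide +kernel)
  rw [surv_co3] at hg
  rcases List.mem_cons.1 hg with hg | hg
  · subst hg
    rw [ord_m23] at he hOd
    have hO1 : Nat.card O = 1 := eq_one_of_mod (l := [(2,3),(3,5),(5,2)]) (m := 48600) (by decide +kernel)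
      (by norm_num) (by simpa using hOd) hq (by decide +kernel)
    rw [hO1] at he
    norm_num at he
    exact ⟨N, inferInstance, inferInstance, nonempty_equiv hO1 (idx_one (by norm_num) he), Or.inl hr⟩
  · rw [List.mem_singleton] at hg
    subst hg
    rw [ord_m24] at he hOd
    have hO1 : Nat.card O = 1 := eq_one_of_mod (l := [(3,4),(5,2)]) (m := 2025) (by decide +kernel) (by norm_num)
      (by simpa using hOd) hq (by decide +kernel)
    rw [hO1] at he
    norm_num at he
    exact ⟨N, inferInstance, inferInstance, nonempty_equiv hO1 (idx_one (by norm_num) he), Or.inr hr⟩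

theorem surv_co2 : surv 42305421312000 [(2,18),(3,6),(5,3),(7,1),(11,1),(23,1)] 23 [7] = [.m23, .m24] := by
  decide +kernel

/-- **Co2** -/
theorem top_co2 (S : Ful T 42305421312000 [(2,18),(3,6),(5,3),(7,1),(11,1),(23,1)] 23 R) :
    ∃ (O : Subgroup R) (_ : O.Normal) (N : Subgroup (R ⧸ O)), N.index = 1 ∧ N.Normal ∧
      (OrdDiv.Real .m23 N ∧ (Nat.card O = 1 ∨ Nat.card O = 2 ^ 11) ∨ OrdDiv.Real .m24 N ∧ Nat.card O = 1) := by
  obtain ⟨O, hO, N, g, h, hg, hr, hc, hcR, hOd, hq, he⟩ := S.exists_main (s := 7) (by norm_num) (by decide +kernel)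
  rw [surv_co2] at hg
  have hN := h.normal
  rcases List.mem_cons.1 hg with hg | hg
  · subst hg
    rw [ord_m23] at he hOd
    have hOd' : Nat.card O ∣ 4147200 := by simpa using hOd
    have h0 : Nat.card O ≠ 0 := Nat.card_pos.ne'
    have h11 : (Nat.card O).factorization 2 ≤ 11 := by
      have h1 := (Nat.factorization_le_iff_dvd h0 (by norm_num)).2 hOd' 2
      have h2 : (4147200 : ℕ).factorization 2 = 11 := by
        rw [show (4147200 : ℕ) = 2 ^ 11 * 2025 by norm_num, Nat.factorization_mul (by norm_num) (by norm_num),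
          Finsupp.add_apply, Nat.Prime.factorization_pow Nat.prime_two, Finsupp.single_eq_same,
          Nat.factorization_eq_zero_of_not_dvd (by norm_num : ¬ 2 ∣ 2025)]
      rwa [h2] at h1
    have h2 := hq 2 Nat.prime_two (by norm_num)
    have h3 : (Nat.card O).factorization 2 = 0 ∨ (Nat.card O).factorization 2 = 11 := by
      generalize (Nat.card O).factorization 2 = b at h11 h2
      interval_cases b <;> simp_all
    have hodd : ordCompl[2] (Nat.card O) = 1 := by
      apply eq_one_of_mod (l := [(3,4),(5,2)]) (m := 2025) (r := 23) (by decide +kernel) (by norm_num) ?_ ?_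
        (by decide +kernel)
      · have h4 : ordCompl[2] (Nat.card O) ∣ ordCompl[2] 4147200 := Nat.ordCompl_dvd_ordCompl_of_dvd hOd' 2
        have h5 : ordCompl[2] 4147200 = 2025 := by
          have h6 : (4147200 : ℕ).factorization 2 = 11 := by
            rw [show (4147200 : ℕ) = 2 ^ 11 * 2025 by norm_num, Nat.factorization_mul (by norm_num) (by norm_num),
              Finsupp.add_apply, Nat.Prime.factorization_pow Nat.prime_two, Finsupp.single_eq_same,
              Nat.factorization_eq_zero_of_not_dvd (by norm_num : ¬ 2 ∣ 2025)]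
          rw [h6]
          norm_num
        rwa [h5] at h4
      · intro q hqp hrq
        by_cases h2q : q = 2
        · subst h2q
          rw [Nat.factorization_ordCompl, Finsupp.erase_same, pow_zero]
          norm_num
        · rw [Nat.factorization_ordCompl, Finsupp.erase_ne h2q]
          exact hq q hqp hrq
    have hOc : Nat.card O = 2 ^ (Nat.card O).factorization 2 := by
      have h4 := Nat.ordProj_mul_ordCompl_eq_self (Nat.card O) 2
      rw [hodd, mul_one] at h4
      exact h4.symm
    have hOc' : Nat.card O = 1 ∨ Nat.card O = 2 ^ 11 := by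
      rcases h3 with h3 | h3
      · rw [h3] at hOc; exact Or.inl hOc
      · rw [h3] at hOc; exact Or.inr hOc
    refine ⟨O, hO, N, ?_, hN, Or.inl ⟨hr, hOc'⟩⟩
    rcases hOc' with hO1 | hO1
    · rw [hO1] at he
      norm_num at he
      exact idx_one (by norm_num) he
    · rw [hO1] at he
      norm_num at he
      exact idx_one (by norm_num) he
  · rw [List.mem_singleton] at hg
    subst hg
    rw [ord_m24] at he hOd
    have hO1 : Nat.card O = 1 := eq_one_of_mod (l := [(2,8),(3,3),(5,2)]) (m := 172800) (by decide +kernel)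
      (by norm_num) (by simpa using hOd) hq (by decide +kernel)
    rw [hO1] at he
    norm_num at he
    exact ⟨O, hO, N, idx_one (by norm_num) he, hN, Or.inr ⟨hr, hO1⟩⟩

theorem surv_tits : surv 17971200 [(2,11),(3,3),(5,2),(13,1)] 13 [5] = [.psl 2 25, .psu 3 4] := by
  decide +kernel

/-- **Tits** -/
theorem top_tits (S : Ful T 17971200 [(2,11),(3,3),(5,2),(13,1)] 13 R) :
    ∃ (O : Subgroup R) (_ : O.Normal) (N : Subgroup (R ⧸ O)), N.Normal ∧ Nat.card O = 1 ∧
      (OrdDiv.Real (.psl 2 25) N ∧ N.index ∣ 3 ∨ OrdDiv.Real (.psu 3 4) N ∧ N.index ∣ 2) := by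
  obtain ⟨O, hO, N, g, h, hg, hr, hc, hcR, hOd, hq, he⟩ := S.exists_main (s := 5) (by norm_num) (by decide +kernel)
  rw [surv_tits] at hg
  have hN := h.normal
  rcases List.mem_cons.1 hg with hg | hg
  · subst hg
    rw [ord_l25] at he hOd
    have hO1 : Nat.card O = 1 := eq_one_of_mod (l := [(2,8),(3,2)]) (m := 2304) (by decide +kernel)
      (by norm_num) (by simpa using hOd) hq (by decide +kernel)
    rw [hO1] at he
    norm_num at he
    refine ⟨O, hO, N, hN, hO1, Or.inl ⟨hr, ?_⟩⟩
    exact Nat.dvd_of_mul_dvd_mul_left (k := 2) (by norm_num) (by simpa using he)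
  · rw [List.mem_singleton] at hg
    subst hg
    rw [ord_u34] at he hOd
    have hO1 : Nat.card O = 1 := eq_one_of_mod (l := [(2,5),(3,2)]) (m := 288) (by decide +kernel) (by norm_num)
      (by simpa using hOd) hq (by decide +kernel)
    rw [hO1] at he
    norm_num at he
    refine ⟨O, hO, N, hN, hO1, Or.inr ⟨hr, ?_⟩⟩
    exact Nat.dvd_of_mul_dvd_mul_left (k := 3) (by norm_num) (by simpa using he)

end Cfsg.Agent.H604.Sax
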